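import Cfsg.Agent.Lib.Local.Isolated
import Cfsg.Agent.Lib.Fusion.Basic
import Cfsg.Agent.Lib.PGroup.OddOmega
import Cfsg.Prelude.Def_CaseTheorems
import Mathlib.GroupTheory.Transfer
import Mathlib.GroupTheory.Abelianization.Defs

/-!
# An isolated element of order `p` in a perfect group of `p`-rank two: transfer
-/

set_option autoImplicit false
set_option linter.style.haveILetI false

namespace Cfsg.Lib.Local.IsolatedTwo

open Subgroup
open scoped commutatorElement

universe u v

variable {L : Type u} [Group L]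

/-- A perfect group with an isolated element `x` of order `p` in the centre of the Sylow subgroup `R`. -/
structure Setup (p : ℕ) (R : Subgroup L) (x : L) : Prop where
  ne_two : p ≠ 2
  isPGroup : IsPGroup p R
  sylow : ¬ p ∣ R.index
  perfect : commutator L = ⊤
  rank : Cfsg.PRankLE p 2 L
  mem : x ∈ R
  ne_one : x ≠ 1
  pow_eq : x ^ p = 1
  isolated : Cfsg.IsIsolated x

section General

variable [Finite L] {p : ℕ} [hp : Fact p.Prime]

/-- A subgroup containing a Sylow subgroup and all elements of order prime to `p` of `K` contains `K`. -/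
theorem le_of_sylow_of_coprime {K P G₀ : Subgroup L} (hP : IsPGroup p P) (hPK : P ≤ K)
    (hidx : ¬ p ∣ P.relIndex K) (hP0 : P ≤ G₀)
    (h : ∀ k ∈ K, (orderOf k).Coprime p → k ∈ G₀) : K ≤ G₀ := by
  let S : Sylow p K := (hP.of_equiv (subgroupOfEquivOfLe hPK).symm).toSylow hidx
  have hS : (S : Subgroup K) ⊔ Cfsg.pResidual p K = ⊤ := Fusion.sylow_sup_pResidual S
  intro k hk
  have hle : (S : Subgroup K) ⊔ Cfsg.pResidual p K ≤ G₀.subgroupOf K := by
    refine sup_le (fun s hs => mem_subgroupOf.2 (hP0 ?_)) ?_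
    · exact mem_subgroupOf.1 hs
    · refine (closure_le _).2 fun g hg => mem_subgroupOf.2 (h g g.2 ?_)
      rwa [orderOf_coe]
  exact mem_subgroupOf.1 (hle (hS.symm ▸ mem_top (⟨k, hk⟩ : K)))

omit [Finite L] hp in
/-- Powers prime to `p` of a `p`-element generate the same group. -/
theorem eq_one_of_pow_coprime {a : L} {m : ℕ} (ha : ∃ k : ℕ, a ^ p ^ k = 1) (hm : m.Coprime p)
    (h : a ^ m = 1) : a = 1 := by
  obtain ⟨k, hk⟩ := ha
  have h1 : orderOf a ∣ Nat.gcd m (p ^ k) :=
    Nat.dvd_gcd (orderOf_dvd_of_pow_eq_one h) (orderOf_dvd_of_pow_eq_one hk)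
  rw [Nat.Coprime.gcd_eq_one (hm.pow_right k)] at h1
  exact orderOf_eq_one_iff.1 (Nat.dvd_one.1 h1)

omit [Finite L] hp in
/-- If conjugation by `g` multiplies `a` by a fixed element `c`, its powers multiply by powers of `c`. -/
theorem conj_pow_eq {g a c : L} (h : g * a * g⁻¹ = a * c) (hc : Commute g c) :
    ∀ j : ℕ, g ^ j * a * (g ^ j)⁻¹ = a * c ^ j := by
  intro j
  induction j with
  | zero => simp
  | succ j ih =>
    have e : g ^ (j + 1) * a * (g ^ (j + 1))⁻¹ = g * (g ^ j * a * (g ^ j)⁻¹) * g⁻¹ := by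
      rw [pow_succ']; group
    rw [e, ih, show g * (a * c ^ j) * g⁻¹ = (g * a * g⁻¹) * (g * c ^ j * g⁻¹) by group, h,
      (hc.pow_right j).eq, mul_inv_cancel_right, pow_succ', mul_assoc]

omit [Finite L] hp in
/-- An element of order prime to `p` moving `a` by a fixed `p`-element centralizes `a`. -/
theorem commute_of_conj_eq {g a c : L} (hg : (orderOf g).Coprime p) (h : g * a * g⁻¹ = a * c)
    (hc : Commute g c) (hcp : ∃ k : ℕ, c ^ p ^ k = 1) : Commute g a := by
  have h1 := conj_pow_eq h hc (orderOf g)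
  rw [pow_orderOf_eq_one, one_mul, inv_one, mul_one, left_eq_mul] at h1
  rw [eq_one_of_pow_coprime hcp hg h1, mul_one] at h
  exact mul_inv_eq_iff_eq_mul.1 h

omit [Finite L] hp in
theorem exists_pow_eq_one {M : Subgroup L} (hM : IsPGroup p M) {c : L} (hc : c ∈ M) :
    ∃ k : ℕ, c ^ p ^ k = 1 := by
  obtain ⟨k, hk⟩ := hM ⟨c, hc⟩
  exact ⟨k, by simpa using congrArg Subtype.val hk⟩

omit [Finite L] hp in
theorem conj_mem_of_normalizer {M : Subgroup L} {g a : L} (hg : g ∈ normalizer (M : Set L))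
    (ha : a ∈ M) : g * a * g⁻¹ ∈ M :=
  (mem_normalizer_iff.1 hg a).1 ha

end General

namespace Setup

variable [Finite L] {p : ℕ} [hp : Fact p.Prime] {R : Subgroup L} {x : L} (h : Setup p R x)
include h

omit [Finite L] in
theorem orderOf_eq : orderOf x = p := orderOf_eq_prime h.pow_eq h.ne_one

omit [Finite L] in
theorem prime_pow : ∃ k : ℕ, orderOf x = p ^ k := ⟨1, by rw [h.orderOf_eq, pow_one]⟩

theorem fix {g : L} (hg : g * x * g⁻¹ ∈ R) : g * x * g⁻¹ = x :=
  isolated_eq_of_mem_pGroup h.isolated h.isPGroup h.mem hg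

theorem commute {r : L} (hr : r ∈ R) : Commute x r :=
  (mem_centralizer_singleton_iff.1 (isolated_le_centralizer h.isolated h.isPGroup h.mem hr)).symm

theorem commute_normalizer {M : Subgroup L} (hM : M ≤ R) (hx : x ∈ M) {g : L}
    (hg : g ∈ normalizer (M : Set L)) : Commute g x :=
  commute_conj_iff (h.fix (hM (conj_mem_of_normalizer hg hx)))

section Hom

variable {A : Type v} [CommGroup A] (θ : R →* A)

omit [Finite L] hp h in
theorem conj_mem {g : L} (hg : g ∈ normalizer (R : Set L)) (r : R) : g * r * g⁻¹ ∈ R :=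
  conj_mem_of_normalizer hg r.2

/-- An element whose powers are only fused within the fibres of `θ` lies in the kernel. -/
theorem map_eq_one (r : R)
    (hr : ∀ (k : ℕ) (g : L) (hm : g⁻¹ * (r : L) ^ k * g ∈ R), θ ⟨_, hm⟩ = θ r ^ k) : θ r = 1 := by
  classical
  haveI : R.FiniteIndex := inferInstance
  letI := R.fintypeQuotientOfFiniteIndex
  have h1 : MonoidHom.transfer θ (r : L) = 1 := by
    have h2 : commutator L ≤ (MonoidHom.transfer θ).ker := Abelianization.commutator_subset_ker _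
    rw [h.perfect] at h2
    exact h2 (mem_top _)
  rw [MonoidHom.transfer_eq_prod_quotient_orbitRel_zpowers_quot] at h1
  simp only [hr] at h1
  rw [Finset.prod_pow_eq_pow_sum, ← Subgroup.index_eq_sum_minimalPeriod R (r : L)] at h1
  obtain ⟨k, hk⟩ := h.isPGroup r
  refine eq_one_of_pow_coprime (p := p) ⟨k, ?_⟩
    ((Nat.coprime_comm.1 ((Nat.Prime.coprime_iff_not_dvd hp.out).2 h.sylow))) h1
  rw [← map_pow, hk, map_one]

/-- A homomorphism compatible with fusion is trivial. -/
theorem map_eq_one_of_fusion (hθ : ∀ (g : L) (r : R) (hm : g * r * g⁻¹ ∈ R), θ ⟨_, hm⟩ = θ r)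
    (r : R) : θ r = 1 := by
  refine h.map_eq_one θ r fun k g hm => ?_
  have h1 := hθ g⁻¹ (r ^ k) (by simpa using hm)
  simp only [SubgroupClass.coe_pow, inv_inv] at h1
  rw [h1, map_pow]

/-- `θ` kills `x`. -/
theorem map_x_eq_one : θ ⟨x, h.mem⟩ = 1 := by
  refine h.map_eq_one θ _ fun k g hm => ?_
  rw [← map_pow]
  refine congrArg θ (Subtype.ext ?_)
  simp only [SubgroupClass.coe_pow]
  by_cases hk : p ∣ k
  · obtain ⟨j, rfl⟩ := hk
    rw [pow_mul, h.pow_eq, one_pow]
    simp
  · obtain ⟨j, hj⟩ := exists_pow_eq_self_of_coprime (x := x) (n := k) (by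
      rw [h.orderOf_eq]; exact ((Nat.Prime.coprime_iff_not_dvd hp.out).2 hk).symm)
    have e : g⁻¹ * x * g⁻¹⁻¹ = (g⁻¹ * x ^ k * g) ^ j := by
      have := conj_pow (a := g⁻¹) (b := x ^ k) (i := j)
      rw [inv_inv] at this ⊢
      rw [this, hj]
    have h1 : g⁻¹ * x * g⁻¹⁻¹ = x := h.fix (e.symm ▸ pow_mem hm j)
    have h2 : (g⁻¹ * x * g⁻¹⁻¹) ^ k = g⁻¹ * x ^ k * g := by rw [conj_pow, inv_inv]
    rw [h1] at h2
    exact h2.symm

end Hom

theorem commutator_mem : x ∈ ⁅R, R⁆ := by
  have h1 := h.map_x_eq_one (Abelianization.of (G := R))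
  have h2 : (⟨x, h.mem⟩ : R) ∈ commutator R := by
    rwa [← MonoidHom.mem_ker, Abelianization.ker_of] at h1
  have h3 := mem_map_of_mem R.subtype h2
  rwa [map_subtype_commutator] at h3

end Setup

end Cfsg.Lib.Local.IsolatedTwo
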