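import Mathlib

/-!
# A uniserial automorphism of an abelian `p`-group of rank two
-/

set_option autoImplicit false
set_option linter.style.haveILetI false

namespace Cfsg.Lib.Local.IsolatedTwo

open Subgroup

variable {A : Type*} [CommGroup A]

/-- `T a = φ a / a`. -/
def diffHom (φ : MulAut A) : A →* A := MonoidHom.mk' (fun a => φ a / a) fun a b => by
  simp only [map_mul, mul_div_mul_comm]

theorem diffHom_apply (φ : MulAut A) (a : A) : diffHom φ a = φ a / a := rfl

theorem apply_eq (φ : MulAut A) (a : A) : φ a = a * diffHom φ a := (mul_div_cancel a (φ a)).symm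

/-- The images of the iterates of `T`. -/
def img (φ : MulAut A) : ℕ → Subgroup A
  | 0 => ⊤
  | j + 1 => (img φ j).map (diffHom φ)

theorem img_invariant (φ : MulAut A) : ∀ j, ∀ a ∈ img φ j, diffHom φ a ∈ img φ j := by
  intro j
  induction j with
  | zero => exact fun a _ => mem_top _
  | succ j ih =>
    rintro _ ⟨b, hb, rfl⟩
    exact ⟨_, ih b hb, rfl⟩

theorem mem_img_succ (φ : MulAut A) {j : ℕ} {a : A} (ha : a ∈ img φ j) :
    diffHom φ a ∈ img φ (j + 1) := mem_map_of_mem _ ha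

theorem img_antitone (φ : MulAut A) : Antitone (img φ) := antitone_nat_of_succ_le fun j => by
  rintro _ ⟨b, hb, rfl⟩
  exact img_invariant φ j b hb

theorem apply_mem_img (φ : MulAut A) {j : ℕ} {a : A} (ha : a ∈ img φ j) : φ a ∈ img φ j := by
  rw [apply_eq]
  exact mul_mem ha (img_invariant φ j a ha)

/-- The hypotheses: `T` has kernel of order `p` meeting every nontrivial invariant subgroup. -/
structure Chain (p m : ℕ) (φ : MulAut A) : Prop where
  card : Nat.card A = p ^ m
  card_ker : Nat.card (diffHom φ).ker = p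
  meet : ∀ U : Subgroup A, U ≠ ⊥ → (∀ a ∈ U, diffHom φ a ∈ U) → (diffHom φ).ker ≤ U

namespace Chain

variable [Finite A] {p m : ℕ} [hp : Fact p.Prime] {φ : MulAut A} (C : Chain p m φ)
include C

theorem card_map (U : Subgroup A) (hU : (diffHom φ).ker ≤ U) :
    Nat.card (U.map (diffHom φ)) * p = Nat.card U := by
  have h1 := card_eq_card_quotient_mul_card_subgroup ((diffHom φ).comp U.subtype).ker
  rw [Nat.card_congr (QuotientGroup.quotientKerEquivRange ((diffHom φ).comp U.subtype)).toEquiv,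
    MonoidHom.range_comp, range_subtype] at h1
  rw [h1]
  congr 1
  rw [← MonoidHom.comap_ker, show ((diffHom φ).ker).comap U.subtype = (diffHom φ).ker.subgroupOf U from rfl,
    Nat.card_congr (subgroupOfEquivOfLe hU).toEquiv, C.card_ker]

theorem one_le : 1 ≤ m := by
  by_contra h
  have h1 := card_le_card_group (diffHom φ).ker
  rw [C.card_ker, C.card, show m = 0 by omega, pow_zero] at h1
  exact absurd h1 (not_le.2 hp.out.one_lt)

theorem card_img : ∀ j ≤ m, Nat.card (img φ j) = p ^ (m - j) := by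
  intro j
  induction j with
  | zero => intro _; rw [img, card_top, C.card, Nat.sub_zero]
  | succ j ih =>
    intro hj
    have h1 := ih (by omega)
    have hne : img φ j ≠ ⊥ := fun e => by
      rw [e, card_bot] at h1
      exact absurd h1 (Nat.one_lt_pow (by omega) hp.out.one_lt).ne
    have h2 := C.card_map (img φ j) (C.meet _ hne (img_invariant φ j))
    rw [h1, show m - j = (m - (j + 1)) + 1 by omega, pow_succ] at h2
    exact Nat.eq_of_mul_eq_mul_right hp.out.pos h2

theorem img_top : img φ m = ⊥ := eq_bot_of_card_eq _ (by rw [C.card_img m le_rfl, Nat.sub_self, pow_zero])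

theorem img_eq_bot {j : ℕ} (hj : m ≤ j) : img φ j = ⊥ := le_bot_iff.1 (C.img_top ▸ img_antitone φ hj)

theorem img_ne_bot {j : ℕ} (hj : j < m) : img φ j ≠ ⊥ := fun e => by
  have h1 := C.card_img j hj.le
  rw [e, card_bot] at h1
  exact absurd h1 (Nat.one_lt_pow (by omega) hp.out.one_lt).ne

theorem ker_le_img {j : ℕ} (hj : j < m) : (diffHom φ).ker ≤ img φ j :=
  C.meet _ (C.img_ne_bot hj) (img_invariant φ j)

theorem ker_eq : (diffHom φ).ker = img φ (m - 1) := by
  have h1 := C.one_le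
  refine eq_of_le_of_card_ge (C.ker_le_img (by omega)) ?_
  rw [C.card_img _ (by omega), C.card_ker, show m - (m - 1) = 1 by omega, pow_one]

theorem exists_not_mem {j : ℕ} (hj : j < m) : ∃ a ∈ img φ j, a ∉ img φ (j + 1) := by
  by_contra! hall
  have h1 := card_le_of_le hall
  rw [C.card_img j hj.le, C.card_img (j + 1) hj] at h1
  exact absurd h1 (not_le.2 (Nat.pow_lt_pow_right hp.out.one_lt (by omega)))

theorem gen {j : ℕ} (hj : j < m) {u : A} (hu : u ∈ img φ j) (hu' : u ∉ img φ (j + 1)) :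
    img φ j ≤ zpowers u ⊔ img φ (j + 1) := by
  have hle : zpowers u ⊔ img φ (j + 1) ≤ img φ j :=
    sup_le (zpowers_le.2 hu) (img_antitone φ (by omega))
  refine (eq_of_le_of_card_ge hle ?_).ge
  have hlt : img φ (j + 1) < zpowers u ⊔ img φ (j + 1) :=
    lt_of_le_of_ne le_sup_right fun e => hu' (e.ge (mem_sup_left (mem_zpowers u)))
  have h1 := Set.Finite.card_lt_card (Set.toFinite _) (SetLike.coe_ssubset_coe.2 hlt)
  simp only [SetLike.coe_sort_coe] at h1
  obtain ⟨k, hk, hk'⟩ := (Nat.dvd_prime_pow hp.out).1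
    (C.card ▸ card_subgroup_dvd_card (zpowers u ⊔ img φ (j + 1)))
  rw [hk', C.card_img _ hj] at h1
  rw [C.card_img j hj.le, hk']
  have := (Nat.pow_lt_pow_iff_right hp.out.one_lt).1 h1
  exact Nat.pow_le_pow_right hp.out.pos (by omega)

theorem of_succ {j : ℕ} (hj : j < m) {a : A} (ha : diffHom φ a ∈ img φ (j + 1)) : a ∈ img φ j := by
  obtain ⟨b, hb, hab⟩ := ha
  have h1 : a / b ∈ img φ j := C.ker_le_img hj (by rw [MonoidHom.mem_ker, map_div, hab, div_self'])
  simpa using mul_mem h1 hb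

/-- An invariant subgroup reaching level `j` contains the whole level. -/
theorem img_le_of_mem {U : Subgroup A} (hU : ∀ a ∈ U, diffHom φ a ∈ U) :
    ∀ d j, m ≤ j + d → ∀ u ∈ U, u ∈ img φ j → u ∉ img φ (j + 1) → img φ j ≤ U := by
  intro d
  induction d with
  | zero =>
    intro j hj u _ hu hu'
    rw [C.img_eq_bot (by omega)]
    exact bot_le
  | succ d ih =>
    intro j hj u huU hu hu'
    by_cases hjm : m ≤ j
    · rw [C.img_eq_bot hjm]; exact bot_le
    refine (C.gen (by omega) hu hu').trans (sup_le (zpowers_le.2 huU) ?_)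
    by_cases hj1 : m ≤ j + 1
    · rw [C.img_eq_bot hj1]; exact bot_le
    exact ih (j + 1) (by omega) _ (hU u huU) (mem_img_succ φ hu) fun hT =>
      hu' (C.of_succ (j := j + 1) (by omega) hT)

/-- An invariant subgroup is one of the images. -/
theorem eq_img {U : Subgroup A} (hU : ∀ a ∈ U, diffHom φ a ∈ U) {k : ℕ} (hk : k ≤ m)
    (hc : Nat.card U = p ^ (m - k)) : U = img φ k := by
  classical
  rcases Nat.eq_or_lt_of_le hk with rfl | hkm
  · rw [C.img_top]
    exact eq_bot_of_card_eq _ (by rw [hc, Nat.sub_self, pow_zero])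
  by_cases hle : img φ k ≤ U
  · exact (eq_of_le_of_card_ge hle (by rw [hc, C.card_img k hk])).symm
  refine eq_of_le_of_card_ge (fun u hu => ?_) (by rw [hc, C.card_img k hk])
  by_contra huk
  have hex : ∃ j, u ∉ img φ j := ⟨k, huk⟩
  obtain ⟨j, hj⟩ : ∃ j, Nat.find hex = j + 1 := by
    refine Nat.exists_eq_succ_of_ne_zero fun e => ?_
    exact Nat.find_spec hex (e ▸ (mem_top u : u ∈ img φ 0))
  have h1 : u ∈ img φ j := by
    by_contra h
    exact Nat.find_min hex (by omega) h
  have h2 : u ∉ img φ (j + 1) := hj ▸ Nat.find_spec hex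
  have hjk : j + 1 ≤ k := hj ▸ Nat.find_le huk
  exact hle ((img_antitone φ (by omega : j ≤ k)).trans (C.img_le_of_mem hU m j (by omega) u hu h1 h2))

variable (hrank : Nat.card (powMonoidHom p : A →* A).ker = p ^ 2)
include hrank

/-- The `p`-th powers are the second image. -/
theorem range_pow : (powMonoidHom p : A →* A).range = img φ 2 := by
  have h1 := card_eq_card_quotient_mul_card_subgroup (powMonoidHom p : A →* A).ker
  rw [Nat.card_congr (QuotientGroup.quotientKerEquivRange _).toEquiv, hrank, C.card] at h1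
  have h2 : 2 ≤ m := by
    have h3 := card_le_card_group (powMonoidHom p : A →* A).ker
    rw [hrank, C.card] at h3
    exact (Nat.pow_le_pow_iff_right hp.out.one_lt).1 h3
  refine C.eq_img ?_ h2 ?_
  · rintro _ ⟨b, rfl⟩
    exact ⟨diffHom φ b, by simp only [powMonoidHom_apply, map_pow]⟩
  · rw [show m = (m - 2) + 2 by omega, pow_add] at h1
    exact (Nat.eq_of_mul_eq_mul_right (pow_pos hp.out.pos 2) h1).symm

theorem pow_mem_img : ∀ (j : ℕ), ∀ a ∈ img φ j, a ^ p ∈ img φ (j + 2) := by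
  intro j
  induction j with
  | zero => exact fun a _ => C.range_pow hrank ▸ ⟨a, rfl⟩
  | succ j ih =>
    rintro _ ⟨b, hb, rfl⟩
    rw [← map_pow]
    exact mem_img_succ φ (ih b hb)

theorem pow_not_mem (hm : 3 ≤ m) {v : A} (hv : v ∉ img φ 1) : v ^ p ∉ img φ 3 := by
  intro hvp
  obtain ⟨a, ha, ha'⟩ := C.exists_not_mem (j := 2) (by omega)
  refine ha' ?_
  rw [← C.range_pow hrank] at ha
  obtain ⟨b, rfl⟩ := ha
  obtain ⟨u, hu, r, hr, rfl⟩ := mem_sup.1 (C.gen (j := 0) (by omega) (mem_top v) hv (mem_top b))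
  obtain ⟨i, rfl⟩ := mem_zpowers_iff.1 hu
  rw [powMonoidHom_apply, mul_pow, ← zpow_natCast, zpow_comm, zpow_natCast]
  exact mul_mem (zpow_mem hvp i) (C.pow_mem_img hrank 1 r hr)

/-- For `p ≥ 5` the chain is short. -/
theorem length_le (hp5 : 5 ≤ p) (hperiod : ∀ a, (φ ^ p) a = a) : m ≤ 3 := by
  classical
  by_contra! hm
  obtain ⟨v, -, hv⟩ := C.exists_not_mem (j := 0) (by omega)
  refine C.pow_not_mem hrank (by omega) hv ?_
  set T := diffHom φ with hT
  let q : A →* A ⧸ img φ 3 := QuotientGroup.mk' _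
  have hq : ∀ {a : A}, a ∈ img φ 3 → q a = 1 := fun ha => (QuotientGroup.eq_one_iff _).2 ha
  have hT3 : q (T (T (T v))) = 1 := hq (mem_img_succ φ (mem_img_succ φ (mem_img_succ φ (mem_top v))))
  have hφ : ∀ i : ℕ, ∃ r ∈ img φ 3, (φ ^ i) v = v * T v ^ i * T (T v) ^ i.choose 2 * r := by
    intro i
    induction i with
    | zero => exact ⟨1, one_mem _, by simp⟩
    | succ i ih =>
      obtain ⟨r, hr, hri⟩ := ih
      refine ⟨T (T (T v)) ^ i.choose 2 * φ r, mul_mem (pow_mem
        (mem_img_succ φ (mem_img_succ φ (mem_img_succ φ (mem_top v)))) _) (apply_mem_img φ hr), ?_⟩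
      rw [pow_succ', MulAut.mul_apply, hri, map_mul, map_mul, map_mul, map_pow, map_pow, apply_eq φ v,
        apply_eq φ (T v), apply_eq φ (T (T v)), ← hT, mul_pow, mul_pow, Nat.choose_succ_succ',
        Nat.choose_one_right, pow_succ, pow_add]
      ac_rfl
  have hprod : ∀ k : ℕ, q (∏ i ∈ Finset.range k, (φ ^ i) v) =
      q v ^ k * q (T v) ^ k.choose 2 * q (T (T v)) ^ k.choose 3 := by
    intro k
    induction k with
    | zero => simp
    | succ k ih =>
      obtain ⟨r, hr, hrk⟩ := hφ k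
      rw [Finset.prod_range_succ, map_mul, ih, hrk, map_mul, hq hr, mul_one, map_mul, map_mul, map_pow,
        map_pow, Nat.choose_succ_succ' k 1, Nat.choose_succ_succ' k 2, Nat.choose_one_right, pow_succ,
        pow_add, pow_add]
      ac_rfl
  -- the norm lies in the kernel
  have hker : (∏ i ∈ Finset.range p, (φ ^ i) v) ∈ T.ker := by
    rw [MonoidHom.mem_ker, hT, diffHom_apply, map_prod, div_eq_one]
    have e1 : ∀ i, φ ((φ ^ i) v) = (φ ^ (i + 1)) v := fun i => by rw [pow_succ', MulAut.mul_apply]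
    simp only [e1]
    have h1 := Finset.prod_range_succ (fun i => (φ ^ i) v) p
    have h2 := Finset.prod_range_succ' (fun i => (φ ^ i) v) p
    simp only [hperiod, pow_zero, MulAut.one_apply] at h1 h2
    exact mul_right_cancel (h2.symm.trans h1)
  rw [C.ker_eq] at hker
  have h3 := hq (img_antitone φ (by omega : 3 ≤ m - 1) hker)
  rw [hprod] at h3
  obtain ⟨c₂, hc₂⟩ := hp.out.dvd_choose_self (k := 2) (by omega) (by omega)
  obtain ⟨c₃, hc₃⟩ := hp.out.dvd_choose_self (k := 3) (by omega) (by omega)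
  rw [hc₂, hc₃, pow_mul, pow_mul, ← map_pow q (T v), ← map_pow q (T (T v)),
    hq (C.pow_mem_img hrank 1 _ (mem_img_succ φ (mem_top v))),
    hq (img_antitone φ (by omega : 3 ≤ 4) (C.pow_mem_img hrank 2 _ (mem_img_succ φ (mem_img_succ φ (mem_top v))))),
    one_pow, one_pow, mul_one, mul_one, ← map_pow] at h3
  exact (QuotientGroup.eq_one_iff _).1 h3

omit hrank hp in
theorem pow_apply_div {j : ℕ} {a : A} (ha : a ∈ img φ j) :
    ∀ n : ℕ, (φ ^ n) a / a / diffHom φ a ^ n ∈ img φ (j + 2) := by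
  intro n
  induction n with
  | zero => simp
  | succ n ih =>
    have h1 := apply_mem_img φ ih
    have h2 : diffHom φ (diffHom φ a) ^ n ∈ img φ (j + 2) :=
      pow_mem (mem_img_succ φ (mem_img_succ φ ha)) n
    have e : (φ ^ (n + 1)) a / a / diffHom φ a ^ (n + 1) =
        φ ((φ ^ n) a / a / diffHom φ a ^ n) * diffHom φ (diffHom φ a) ^ n := by
      rw [pow_succ' φ, MulAut.mul_apply, map_div, map_div, map_pow, apply_eq φ a,
        apply_eq φ (diffHom φ a), mul_pow, pow_succ]
      rw [div_div, div_div,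
        show a * diffHom φ a * (diffHom φ a ^ n * diffHom φ (diffHom φ a) ^ n) =
          a * (diffHom φ a ^ n * diffHom φ a) * diffHom φ (diffHom φ a) ^ n by ac_rfl,
        ← div_div (φ ((φ ^ n) a)) (a * _), div_mul_cancel]
    rw [e]
    exact mul_mem h1 h2

/-- An automorphism normalizing `⟨φ⟩` fixes the top layer when `m` is odd. -/
theorem fix_of_odd (hm : 3 ≤ m) (hodd : Odd m) (ψ : A →* A) (l : ℕ)
    (hψ : ∀ a, ψ (diffHom φ a) = (φ ^ l) (ψ a) / ψ a) (hfix : ∀ a ∈ (diffHom φ).ker, ψ a = a) :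
    ∀ v : A, ψ v / v ∈ img φ 1 := by
  intro v
  have hψinv : ∀ j, ∀ a ∈ img φ j, ψ a ∈ img φ j := by
    intro j
    induction j with
    | zero => exact fun a _ => mem_top _
    | succ j ih =>
      rintro _ ⟨b, hb, rfl⟩
      rw [hψ]
      have h1 := C.pow_apply_div (ih b hb) l
      have h2 := mul_mem (img_antitone φ (by omega : j + 1 ≤ j + 2) h1)
        (pow_mem (mem_img_succ φ (ih b hb)) l)
      rwa [div_mul_cancel] at h2
  by_cases hv : v ∈ img φ 1
  · exact div_mem (hψinv 1 v hv) hv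
  have hgen : ∀ a : A, ∃ i : ℤ, a / v ^ i ∈ img φ 1 := by
    intro a
    obtain ⟨u, hu, r, hr, rfl⟩ := mem_sup.1 (C.gen (j := 0) (by omega) (mem_top v) hv (mem_top a))
    obtain ⟨i, rfl⟩ := mem_zpowers_iff.1 hu
    exact ⟨i, by rwa [mul_div_cancel_left]⟩
  obtain ⟨α, hα⟩ := hgen (ψ v)
  have hlayer : ∀ j, ∀ a ∈ img φ j, ψ a / a ^ (α * (l : ℤ) ^ j) ∈ img φ (j + 1) := by
    intro j
    induction j with
    | zero =>
      intro a _
      obtain ⟨i, hi⟩ := hgen a
      have h1 := mul_mem (zpow_mem hα i) (div_mem (hψinv 1 _ hi) (zpow_mem hi α))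
      have e : (ψ v / v ^ α) ^ i * (ψ (a / v ^ i) / (a / v ^ i) ^ α) = ψ a / a ^ (α * (l : ℤ) ^ 0) := by
        rw [map_div, map_zpow, div_zpow, div_zpow, pow_zero, mul_one, zpow_comm v,
          div_div_div_comm (ψ a), mul_div_cancel]
      rwa [e] at h1
    | succ j ih =>
      rintro _ ⟨b, hb, rfl⟩
      have h1 := C.pow_apply_div (hψinv j b hb) l
      have h2 := pow_mem (mem_img_succ φ (ih b hb)) l
      have h3 := mul_mem h1 h2
      have e : (φ ^ l) (ψ b) / ψ b / diffHom φ (ψ b) ^ l * diffHom φ (ψ b / b ^ (α * (l : ℤ) ^ j)) ^ l =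
          ψ (diffHom φ b) / diffHom φ b ^ (α * (l : ℤ) ^ (j + 1)) := by
        rw [hψ, map_div, map_zpow, div_pow, ← zpow_natCast (diffHom φ b ^ (α * (l : ℤ) ^ j)) l,
          ← _root_.zpow_mul, pow_succ, mul_assoc α, ← mul_div_assoc, div_mul_cancel]
      rwa [e] at h3
  have hdvd : ∀ (a : A) (e : ℤ), a ≠ 1 → a ^ p = 1 → a ^ e = 1 → (p : ℤ) ∣ e := fun a e ha hap he => by
    rw [← orderOf_eq_prime hap ha]; exact orderOf_dvd_iff_zpow_eq_one.2 he
  -- the bottom layer
  obtain ⟨a, ha, ha1⟩ := C.exists_not_mem (j := m - 1) (by omega)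
  rw [show m - 1 + 1 = m by omega, C.img_top, mem_bot] at ha1
  have h1 := hlayer (m - 1) a ha
  rw [show m - 1 + 1 = m by omega, C.img_top, mem_bot, hfix a (C.ker_eq ▸ ha)] at h1
  have hap : a ^ p = 1 := by
    have := C.pow_mem_img hrank (m - 1) a ha
    rwa [C.img_eq_bot (by omega), mem_bot] at this
  have hb1 : (p : ℤ) ∣ α * (l : ℤ) ^ (m - 1) - 1 := hdvd a _ ha1 hap (by
    rw [_root_.zpow_sub, zpow_one, mul_inv_eq_one]
    exact (div_eq_one.1 h1).symm)
  -- the layer of the `p`-th powers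
  have h2 := hlayer 2 (v ^ p) (C.pow_mem_img hrank 0 v (mem_top v))
  have h3 := C.pow_mem_img hrank 1 _ hα
  have h4 : (v ^ p) ^ (α * (l : ℤ) ^ 2 - α) ∈ img φ 3 := by
    have h5 := div_mem h3 h2
    have e : (ψ v / v ^ α) ^ p / (ψ (v ^ p) / (v ^ p) ^ (α * (l : ℤ) ^ 2)) =
        (v ^ p) ^ (α * (l : ℤ) ^ 2 - α) := by
      rw [map_pow, div_pow, _root_.zpow_sub, div_div_div_cancel_left, div_eq_mul_inv,
        ← zpow_natCast (v ^ α), zpow_comm, zpow_natCast]
    rwa [e] at h5
  have hvp := C.pow_not_mem hrank hm hv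
  have hb2 : (p : ℤ) ∣ α * (l : ℤ) ^ 2 - α := by
    rw [← orderOf_eq_prime (p := p) (x := (QuotientGroup.mk (v ^ p) : A ⧸ img φ 3)) ?_
      (fun e => hvp ((QuotientGroup.eq_one_iff _).1 e))]
    refine orderOf_dvd_iff_zpow_eq_one.2 ?_
    swap
    · rw [← QuotientGroup.mk_pow, QuotientGroup.eq_one_iff]
      exact img_antitone φ (by omega : 3 ≤ 4) (C.pow_mem_img hrank 2 _ (C.pow_mem_img hrank 0 v (mem_top v)))
    · rw [← QuotientGroup.mk_zpow, QuotientGroup.eq_one_iff]
      exact h4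
  have hα1 : (p : ℤ) ∣ α - 1 := by
    rw [← ZMod.intCast_zmod_eq_zero_iff_dvd, Int.cast_sub, sub_eq_zero] at hb1 hb2 ⊢
    push_cast at hb1 hb2 ⊢
    have hl : (l : ZMod p) ^ 2 = 1 := mul_left_cancel₀ (a := (α : ZMod p))
      (fun e => by rw [e, zero_mul] at hb1; exact zero_ne_one hb1) (by rw [hb2, mul_one])
    obtain ⟨c, hc⟩ := hodd
    rwa [show m - 1 = 2 * c by omega, pow_mul, hl, one_pow, mul_one] at hb1
  obtain ⟨c, hc⟩ := hα1
  have h5 := C.pow_mem_img hrank 0 v (mem_top v)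
  have h6 := mul_mem hα (zpow_mem (img_antitone φ (by omega : 1 ≤ 2) h5) c)
  have e : ψ v / v ^ α * (v ^ p) ^ c = ψ v / v := by
    rw [← zpow_natCast v, ← _root_.zpow_mul, ← hc, _root_.zpow_sub, zpow_one]
    simp [div_eq_mul_inv]
  rwa [e] at h6

end Chain

end Cfsg.Lib.Local.IsolatedTwo
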