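import Cfsg.Agent.Lib.Local.IsolatedTwo.Basic

/-!
# Two transvection groups of a plane generate the inversion
-/

set_option autoImplicit false
set_option linter.style.haveILetI false

namespace Cfsg.Lib.Local.IsolatedTwo

open Subgroup

variable {p : ℕ} [hp : Fact p.Prime] {V : Type*} [CommGroup V] [Finite V]

theorem plane_gen (hc : Nat.card V = p ^ 2) (hexp : ∀ v : V, v ^ p = 1) {e v : V} (he : e ≠ 1)
    (hv : v ∉ zpowers e) (u : V) : ∃ i j : ℤ, u = e ^ i * v ^ j := by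
  have hlt : zpowers e < zpowers e ⊔ zpowers v :=
    lt_of_le_of_ne le_sup_left fun e' => hv (e'.ge (mem_sup_right (mem_zpowers v)))
  have h1 := Set.Finite.card_lt_card (Set.toFinite _) (SetLike.coe_ssubset_coe.2 hlt)
  simp only [SetLike.coe_sort_coe] at h1
  obtain ⟨k, hk1, hk⟩ := (Nat.dvd_prime_pow hp.out).1 (hc ▸ card_subgroup_dvd_card (zpowers e ⊔ zpowers v))
  rw [hk, Nat.card_zpowers, orderOf_eq_prime (hexp e) he] at h1
  have hk2 : k = 2 := by
    have : 1 < k := by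
      by_contra hle
      exact absurd h1 (not_lt.2 ((Nat.pow_le_pow_right hp.out.pos (by omega : k ≤ 1)).trans (pow_one p).le))
    omega
  have htop : zpowers e ⊔ zpowers v = ⊤ := eq_top_of_card_eq _ (by rw [hk, hk2, hc])
  obtain ⟨a, ha, b, hb, rfl⟩ := mem_sup.1 (htop.ge (mem_top u))
  obtain ⟨i, rfl⟩ := mem_zpowers_iff.1 ha
  obtain ⟨j, rfl⟩ := mem_zpowers_iff.1 hb
  exact ⟨i, j, rfl⟩

theorem plane_ext (hc : Nat.card V = p ^ 2) (hexp : ∀ v : V, v ^ p = 1) {e v : V} (he : e ≠ 1)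
    (hv : v ∉ zpowers e) {σ τ : MulAut V} (h1 : σ e = τ e) (h2 : σ v = τ v) : σ = τ := by
  refine MulEquiv.ext fun u => ?_
  obtain ⟨i, j, rfl⟩ := plane_gen hc hexp he hv u
  rw [map_mul, map_mul, map_zpow, map_zpow, map_zpow, map_zpow, h1, h2]

/-- An automorphism of `p`-power order fixing `e` is unipotent. -/
theorem plane_unipotent (hc : Nat.card V = p ^ 2) (hexp : ∀ v : V, v ^ p = 1) {e : V} (he : e ≠ 1)
    {π : MulAut V} (hπ : ∃ k : ℕ, π ^ p ^ k = 1) (hfix : π e = e) (v : V) :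
    π v * v⁻¹ ∈ zpowers e := by
  by_cases hv : v ∈ zpowers e
  · obtain ⟨i, rfl⟩ := mem_zpowers_iff.1 hv
    rw [map_zpow, hfix, mul_inv_cancel]
    exact one_mem _
  obtain ⟨i, j, hij⟩ := plane_gen hc hexp he hv (π v)
  have hpow : ∀ n : ℕ, ∃ i' : ℤ, (π ^ n) v = e ^ i' * v ^ (j ^ n) := by
    intro n
    induction n with
    | zero => exact ⟨0, by simp⟩
    | succ n ih =>
      obtain ⟨i', hi'⟩ := ih
      refine ⟨i' + i * j ^ n, ?_⟩
      rw [pow_succ', MulAut.mul_apply, hi', map_mul, map_zpow, map_zpow, hfix, hij, mul_zpow,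
        ← _root_.zpow_mul, ← _root_.zpow_mul, ← mul_assoc, ← _root_.zpow_add, pow_succ']
  obtain ⟨k, hk⟩ := hπ
  obtain ⟨i', hi'⟩ := hpow (p ^ k)
  rw [hk, MulAut.one_apply] at hi'
  have h1 : v ^ (j ^ (p ^ k) - 1) ∈ zpowers e := by
    refine mem_zpowers_iff.2 ⟨-i', ?_⟩
    rw [_root_.zpow_sub, zpow_one, zpow_neg, eq_inv_mul_iff_mul_eq.2 hi'.symm]
    group
  have h2 : (p : ℤ) ∣ j ^ (p ^ k) - 1 := by
    by_contra hnd
    apply hv
    obtain ⟨a, b, hab⟩ := (Nat.prime_iff_prime_int.1 hp.out).coprime_iff_not_dvd.2 hnd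
    have h3 : v ^ (1 : ℤ) ∈ zpowers e := by
      rw [← hab, _root_.zpow_add, mul_comm b, _root_.zpow_mul _ (j ^ (p ^ k) - 1), mul_comm a,
        _root_.zpow_mul _ (p : ℤ), zpow_natCast, hexp, one_zpow, one_mul]
      exact zpow_mem h1 b
    rwa [zpow_one] at h3
  have h3 : (p : ℤ) ∣ j - 1 := by
    rw [← ZMod.intCast_zmod_eq_zero_iff_dvd] at h2 ⊢
    push_cast at h2 ⊢
    rwa [ZMod.pow_card_pow] at h2
  obtain ⟨c, hcj⟩ := h3
  have hvj : v ^ j = v := by
    rw [show j = (p : ℤ) * c + 1 by omega, _root_.zpow_add, _root_.zpow_mul, zpow_natCast, hexp,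
      one_zpow, one_mul, zpow_one]
  refine mem_zpowers_iff.2 ⟨i, ?_⟩
  rw [hij, hvj, mul_inv_cancel_right]

/-- If two conjugate `p`-groups of automorphisms of a plane differ, they generate `-1`. -/
theorem exists_inversion (hc : Nat.card V = p ^ 2) (hexp : ∀ v : V, v ^ p = 1)
    (P : Subgroup (MulAut V)) (hP : IsPGroup p P) (g : MulAut V) (hg : ¬ ∀ π ∈ P, g * π * g⁻¹ ∈ P) :
    ∃ w ∈ closure ((P : Set (MulAut V)) ∪ (fun π => g * π * g⁻¹) '' P), ∀ v, w v = v⁻¹ := by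
  push Not at hg
  obtain ⟨π₀, hπ₀, hgπ₀⟩ := hg
  have hπ₀1 : π₀ ≠ 1 := fun e => hgπ₀ (by rw [e, mul_one, mul_inv_cancel]; exact one_mem _)
  -- a fixed point
  obtain ⟨e, he, he1⟩ := hP.exists_fixed_point_of_prime_dvd_card_of_fixed_point V
    (hc ▸ dvd_pow_self p two_ne_zero) (a := 1) (fun q => smul_one q)
  replace he : ∀ π ∈ P, π e = e := fun π hπ => he ⟨π, hπ⟩
  replace he1 : e ≠ 1 := he1.symm
  have hpp : ∀ π ∈ P, ∃ k : ℕ, π ^ p ^ k = 1 := fun π hπ => exists_pow_eq_one hP hπ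
  have huni : ∀ π ∈ P, ∀ v, π v * v⁻¹ ∈ zpowers e := fun π hπ =>
    plane_unipotent hc hexp he1 (hpp π hπ) (he π hπ)
  have heo : orderOf e = p := orderOf_eq_prime (hexp e) he1
  -- every transvection along `e` is in `P`
  have hex : ∀ v, v ∉ zpowers e → ∀ b : ℤ, ∃ π ∈ P, π e = e ∧ π v = e ^ b * v := by
    intro v hv b
    obtain ⟨a, ha⟩ := mem_zpowers_iff.1 (huni π₀ hπ₀ v)
    have ha' : π₀ v = e ^ a * v := by rw [ha, inv_mul_cancel_right]
    have hea : e ^ a ≠ 1 := fun h => hπ₀1 (plane_ext hc hexp he1 hv (by rw [he _ hπ₀]; rfl)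
      (by rw [ha', h, one_mul]; rfl))
    have hgen : zpowers (e ^ a) = zpowers e := by
      refine eq_of_le_of_card_ge (zpowers_le.2 ⟨a, rfl⟩) (le_of_eq ?_)
      rw [Nat.card_zpowers, Nat.card_zpowers, heo,
        orderOf_eq_prime (p := p) (hexp _) hea]
    obtain ⟨n, hn⟩ := mem_powers_iff_mem_zpowers.2 (hgen.ge (zpow_mem_zpowers e b))
    replace hn : (e ^ a) ^ n = e ^ b := hn
    refine ⟨π₀ ^ n, pow_mem hπ₀ n, he _ (pow_mem hπ₀ n), ?_⟩
    rw [← hn]
    clear hn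
    induction n with
    | zero => simp
    | succ n ih =>
      rw [pow_succ', MulAut.mul_apply, ih, map_mul, map_pow, map_zpow, he _ hπ₀, ha', ← mul_assoc,
        ← pow_succ]
  -- `g e` is a second point
  have hge : g e ∉ zpowers e := by
    intro hge
    apply hgπ₀
    obtain ⟨c, hcc⟩ := mem_zpowers_iff.1 hge
    obtain ⟨v, hv⟩ : ∃ v, v ∉ zpowers e := by
      by_contra! hall
      have := card_le_of_le (H := (⊤ : Subgroup V)) (K := zpowers e) fun u _ => hall u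
      rw [card_top, hc, Nat.card_zpowers, heo] at this
      exact absurd this (not_le.2 (lt_self_pow₀ hp.out.one_lt one_lt_two))
    set τ := g * π₀ * g⁻¹ with hτ
    have hτe : τ e = e := by
      have hgi : g⁻¹ e ∈ zpowers e := by
        have hle : (zpowers e).map g.toMonoidHom = zpowers e := by
          rw [MonoidHom.map_zpowers]
          refine eq_of_le_of_card_ge (zpowers_le.2 hge) (le_of_eq ?_)
          rw [Nat.card_zpowers, Nat.card_zpowers]
          exact (g.orderOf_eq e).symm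
        obtain ⟨u, hu, hue⟩ := hle.ge (mem_zpowers e)
        have : g⁻¹ e = u := by rw [← hue]; exact g.symm_apply_apply u
        rwa [this]
      obtain ⟨i, hi⟩ := mem_zpowers_iff.1 hgi
      rw [hτ, MulAut.mul_apply, MulAut.mul_apply, ← hi, map_zpow π₀, he _ hπ₀, hi]
      exact g.apply_symm_apply e
    obtain ⟨b, hb⟩ : τ v * v⁻¹ ∈ zpowers e := by
      refine plane_unipotent hc hexp he1 ?_ hτe v
      obtain ⟨k, hk⟩ := hpp π₀ hπ₀
      exact ⟨k, by rw [hτ, conj_pow, hk, mul_one, mul_inv_cancel]⟩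
    obtain ⟨π, hπ, hπe, hπv⟩ := hex v hv b
    have : τ = π := plane_ext hc hexp he1 hv (hτe.trans hπe.symm) (by
      rw [hπv, show e ^ b = τ v * v⁻¹ from hb, inv_mul_cancel_right])
    rwa [this]
  set e2 := g e with he2
  have he21 : e2 ≠ 1 := fun h => hge (h ▸ one_mem _)
  have hgie : g⁻¹ e ∉ zpowers e := by
    intro hmem
    obtain ⟨i, hi⟩ := mem_zpowers_iff.1 hmem
    have hi1 : g (e ^ i) = e := by rw [hi]; exact g.apply_symm_apply e
    rw [map_zpow] at hi1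
    have hle : zpowers e = zpowers e2 := by
      refine eq_of_le_of_card_ge (zpowers_le.2 ⟨i, hi1⟩) (le_of_eq ?_)
      rw [Nat.card_zpowers, Nat.card_zpowers, heo, orderOf_eq_prime (p := p) (hexp _) he21]
    exact hge (hle ▸ mem_zpowers e2)
  obtain ⟨s, hs, hse, hse2⟩ := hex e2 hge 1
  obtain ⟨π, hπ, hπe, hπv⟩ := hex _ hgie (-1)
  set σ := g * π * g⁻¹ with hσ
  have hσe2 : σ e2 = e2 := by
    rw [hσ, MulAut.mul_apply, MulAut.mul_apply, he2,
      show g⁻¹ (g e) = e from g.symm_apply_apply e, hπe]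
  have hσe : σ e = e2⁻¹ * e := by
    rw [hσ, MulAut.mul_apply, MulAut.mul_apply, hπv, map_mul, map_zpow, zpow_neg, zpow_one,
      show g (g⁻¹ e) = e from g.apply_symm_apply e]
  rw [zpow_one] at hse2
  set w := s * σ * s with hw
  have hwe : w e = e2⁻¹ := by
    rw [hw, MulAut.mul_apply, MulAut.mul_apply, hse, hσe, map_mul, map_inv, hse2, hse, mul_inv_rev,
      inv_mul_cancel_right]
  have hwe2 : w e2 = e := by
    rw [hw, MulAut.mul_apply, MulAut.mul_apply, hse2, map_mul, hσe, hσe2, mul_right_comm,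
      inv_mul_cancel, one_mul, hse]
  have hwmem : w ∈ closure ((P : Set (MulAut V)) ∪ (fun π => g * π * g⁻¹) '' P) :=
    mul_mem (mul_mem (subset_closure (Or.inl hs)) (subset_closure (Or.inr ⟨π, hπ, rfl⟩)))
      (subset_closure (Or.inl hs))
  refine ⟨w * w, mul_mem hwmem hwmem, fun v => ?_⟩
  obtain ⟨i, j, rfl⟩ := plane_gen hc hexp he1 hge v
  have h1 : (w * w) e = e⁻¹ := by
    show w (w e) = e⁻¹
    rw [hwe, map_inv, hwe2]
  have h2 : (w * w) e2 = e2⁻¹ := by
    show w (w e2) = e2⁻¹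
    rw [hwe2, hwe]
  rw [map_mul, map_zpow, map_zpow, h1, h2, mul_inv, inv_zpow, inv_zpow]

end Cfsg.Lib.Local.IsolatedTwo
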