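import Cfsg.Agent.Lib.Local.IsolatedTwo.Kernel
import Cfsg.Agent.Lib.Local.IsolatedTwo.Plane

/-!
# The normalizer of the Sylow subgroup controls transfer
-/

set_option autoImplicit false
set_option linter.style.haveILetI false

namespace Cfsg.Lib.Local.IsolatedTwo

open Subgroup
open scoped commutatorElement

universe u v

variable {L : Type u} [Group L] [Finite L] {p : ℕ} [hp : Fact p.Prime]

/-- The Frattini argument, elementwise. -/
theorem frattini_elem {K P : Subgroup L} (hP : IsPGroup p P) (hPK : P ≤ K) (hidx : ¬ p ∣ P.relIndex K)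
    {n : L} (hn : n ∈ normalizer (K : Set L)) : ∃ k ∈ K, k * n ∈ normalizer (P : Set L) := by
  set P' := P.map (MulAut.conj n).toMonoidHom with hP'
  have hP'K : P' ≤ K := by
    rintro _ ⟨a, ha, rfl⟩
    exact conj_mem_of_normalizer hn (hPK ha)
  let S : Sylow p K := (hP.of_equiv (subgroupOfEquivOfLe hPK).symm).toSylow hidx
  obtain ⟨S', hS'⟩ := ((hP.map _ : IsPGroup p P').of_equiv (subgroupOfEquivOfLe hP'K).symm).exists_le_sylow
  obtain ⟨k, hk⟩ := MulAction.exists_smul_eq K S' S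
  refine ⟨k, k.2, mem_normalizer_fintype fun a ha => ?_⟩
  have hmem : n * a * n⁻¹ ∈ P' := ⟨a, ha, rfl⟩
  have h1 : k * ⟨_, hP'K hmem⟩ * k⁻¹ ∈ (S : Subgroup K) := by
    rw [← hk]
    exact ⟨_, hS' (mem_subgroupOf.2 hmem), rfl⟩
  have h2 := mem_subgroupOf.1 h1
  rw [show (k : L) * n * a * ((k : L) * n)⁻¹ = k * (n * a * n⁻¹) * (k : L)⁻¹ by group]
  exact h2

/-- A conjugate of `M` in `R` has its normalizer in `R` as a Sylow subgroup of its normalizer. -/
theorem exists_fully_normalized {R : Subgroup L} (hR : IsPGroup p R) (hs : ¬ p ∣ R.index)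
    {M : Subgroup L} (hM : M ≤ R) :
    ∃ h : L, M.map (MulAut.conj h).toMonoidHom ≤ R ∧
      (∀ a ∈ R ⊓ normalizer (M : Set L), h * a * h⁻¹ ∈ R) ∧
      ¬ p ∣ (R ⊓ normalizer ((M.map (MulAut.conj h).toMonoidHom : Subgroup L) : Set L)).relIndex
        (normalizer ((M.map (MulAut.conj h).toMonoidHom : Subgroup L) : Set L)) := by
  set N := normalizer (M : Set L) with hN
  obtain ⟨P₀, hP₀⟩ := ((hR.to_le (inf_le_left : R ⊓ N ≤ R)).of_equiv
    (subgroupOfEquivOfLe (inf_le_right : R ⊓ N ≤ N)).symm).exists_le_sylow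
  obtain ⟨S, hS⟩ := (P₀.isPGroup'.map N.subtype).exists_le_sylow
  let RS : Sylow p L := hR.toSylow hs
  obtain ⟨h, hh⟩ := MulAction.exists_smul_eq L S RS
  have hconj : ∀ a ∈ (P₀ : Subgroup N).map N.subtype, h * a * h⁻¹ ∈ R := fun a ha => by
    have : h * a * h⁻¹ ∈ (RS : Subgroup L) := by
      rw [← hh]
      exact ⟨a, hS ha, rfl⟩
    exact this
  have h0 : ∀ a ∈ R ⊓ N, h * a * h⁻¹ ∈ R := fun a ha =>
    hconj a ⟨⟨a, ha.2⟩, hP₀ (mem_subgroupOf.2 ha), rfl⟩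
  set c := (MulAut.conj h).toMonoidHom with hc
  have hmapN : N.map c = normalizer ((M.map c : Subgroup L) : Set L) :=
    Subgroup.map_equiv_normalizer_eq M (MulAut.conj h)
  refine ⟨h, ?_, h0, ?_⟩
  · rintro _ ⟨a, ha, rfl⟩
    exact h0 a ⟨hM ha, le_normalizer ha⟩
  rw [← hmapN]
  set P₁ := ((P₀ : Subgroup N).map N.subtype).map c with hP₁
  have hP₁le : P₁ ≤ R ⊓ N.map c := by
    rintro _ ⟨a, ha, rfl⟩
    exact ⟨hconj a ha, mem_map_of_mem c (map_subtype_le _ ha)⟩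
  intro hd
  refine P₀.not_dvd_index ?_
  have h1 : P₁.relIndex (N.map c) = (P₀ : Subgroup N).index := by
    rw [hP₁, relIndex_map_map_of_injective _ _ (MulAut.conj h).injective]
    show (((P₀ : Subgroup N).map N.subtype).subgroupOf N).index = _
    rw [subgroupOf, comap_map_eq_self_of_injective N.subtype_injective]
  rw [← h1]
  exact hd.trans (relIndex_dvd_of_le_left _ hP₁le)

namespace Setup

variable {R : Subgroup L} {x : L} (h : Setup p R x) {A : Type v} [CommGroup A] (θ : R →* A)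

open Classical in
/-- `θ` extended to `L`. -/
noncomputable def ext (r : L) : A := if hr : r ∈ R then θ ⟨r, hr⟩ else 1

omit [Finite L] hp in
theorem ext_eq {r : L} (hr : r ∈ R) : ext θ r = θ ⟨r, hr⟩ := dif_pos hr

omit [Finite L] hp in
theorem ext_mul {a b : L} (ha : a ∈ R) (hb : b ∈ R) : ext θ (a * b) = ext θ a * ext θ b := by
  rw [ext_eq θ ha, ext_eq θ hb, ext_eq θ (mul_mem ha hb), ← map_mul]
  rfl

omit [Finite L] hp in
theorem ext_inv {a : L} (ha : a ∈ R) : ext θ a⁻¹ = (ext θ a)⁻¹ := by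
  rw [ext_eq θ ha, ext_eq θ (inv_mem ha), ← map_inv]
  rfl

omit [Finite L] hp in
theorem ext_conj {a r : L} (ha : a ∈ R) (hr : r ∈ R) : ext θ (r * a * r⁻¹) = ext θ a := by
  rw [ext_mul θ (mul_mem hr ha) (inv_mem hr), ext_mul θ hr ha, ext_inv θ hr, mul_right_comm,
    mul_inv_cancel, one_mul]

include h

theorem ext_x : ext θ x = 1 := by rw [ext_eq θ h.mem]; exact h.map_x_eq_one θ

theorem ext_zpow_x {z : L} (hz : z ∈ zpowers x) : ext θ z = 1 := by
  obtain ⟨i, rfl⟩ := mem_zpowers_iff.1 hz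
  rw [ext_eq θ (zpow_mem h.mem i), show (⟨x ^ i, zpow_mem h.mem i⟩ : R) = ⟨x, h.mem⟩ ^ i from rfl,
    map_zpow, h.map_x_eq_one θ, one_zpow]

/-- The local step. -/
theorem step {M : Subgroup L} (hM : M ≤ R) (hxM : x ∈ M)
    (hsyl : ¬ p ∣ (R ⊓ normalizer (M : Set L)).relIndex (normalizer (M : Set L)))
    (hbig : ∀ n : L, (∀ a ∈ R ⊓ normalizer (M : Set L), n * a * n⁻¹ ∈ R) →
      ∀ a ∈ R ⊓ normalizer (M : Set L), ext θ (n * a * n⁻¹) = ext θ a)
    {n : L} (hn : n ∈ normalizer (M : Set L)) {m : L} (hm : m ∈ M) :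
    ext θ (n * m * n⁻¹) = ext θ m := by
  classical
  set N := normalizer (M : Set L) with hN
  set P := R ⊓ N with hPdef
  have hPp : IsPGroup p P := h.isPGroup.to_le inf_le_left
  have hPN : P ≤ N := inf_le_right
  have hMP : M ≤ P := le_inf hM le_normalizer
  have hcm : ∀ {g a : L}, g ∈ N → a ∈ M → g * a * g⁻¹ ∈ R := fun hg ha =>
    hM (conj_mem_of_normalizer hg ha)
  let G₀ : Subgroup L :=
    { carrier := {g | g ∈ N ∧ ∀ a ∈ M, ext θ (g * a * g⁻¹) = ext θ a}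
      one_mem' := ⟨one_mem _, fun a _ => by simp⟩
      mul_mem' := fun {a b} ha hb => ⟨mul_mem ha.1 hb.1, fun c hc => by
        rw [show a * b * c * (a * b)⁻¹ = a * (b * c * b⁻¹) * a⁻¹ by group,
          ha.2 _ (conj_mem_of_normalizer hb.1 hc), hb.2 c hc]⟩
      inv_mem' := fun {a} ha => ⟨inv_mem ha.1, fun c hc => by
        have h1 := ha.2 _ (conj_mem_of_normalizer (inv_mem ha.1) hc)
        rw [show a * (a⁻¹ * c * a⁻¹⁻¹) * a⁻¹ = c by group] at h1
        exact h1.symm⟩ }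
  suffices hN0 : N ≤ G₀ from (hN0 hn).2 m hm
  have hP0 : P ≤ G₀ := fun r hr => ⟨hPN hr, fun a ha => ext_conj θ (hM ha) hr.1⟩
  have hnorm : ∀ {g : L}, g ∈ normalizer (P : Set L) → g ∈ N → g ∈ G₀ := fun {g} hg hgN =>
    ⟨hgN, fun a ha => hbig g (fun b hb => (conj_mem_of_normalizer hg hb).1) a (hMP ha)⟩
  have hext : ∀ K : Subgroup L, K ≤ N → P ≤ K → N ≤ normalizer (K : Set L) →
      (∀ k ∈ K, (orderOf k).Coprime p → k ∈ G₀) → N ≤ G₀ := by
    intro K hKN hPK hKn hcop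
    have hidx : ¬ p ∣ P.relIndex K := fun hd =>
      hsyl (hd.trans (Dvd.intro _ (relIndex_mul_relIndex P K N hPK hKN)))
    have hK0 : K ≤ G₀ := le_of_sylow_of_coprime hPp hPK hidx hP0 hcop
    intro g hg
    obtain ⟨k, hk, hkg⟩ := frattini_elem hPp hPK hidx (hKn hg)
    have h1 := hnorm hkg (mul_mem (hKN hk) hg)
    rw [show g = k⁻¹ * (k * g) by group]
    exact mul_mem (inv_mem (hK0 hk)) h1
  have hcomm0 : ∀ {g : L}, g ∈ N → (∀ a ∈ M, Commute g a) → g ∈ G₀ := fun {g} hg hc =>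
    ⟨hg, fun a ha => by rw [(hc a ha).eq, mul_inv_cancel_right]⟩
  by_cases hcyc : IsCyclic M
  · exact hext N le_rfl hPN le_normalizer fun k hk hkc =>
      hcomm0 hk fun a ha => h.commute_of_cyclic hM hxM hcyc hkc hk ha
  set D := omegaTwo p M with hD
  have hDM : D ≤ M := omegaTwo_le h.ne_two M
  have hxD : x ∈ D := h.x_mem_omegaTwo hM hxM
  have hcxD : ∀ {z a : L}, z ∈ zpowers x → a ∈ R → Commute z a := fun hz ha => by
    obtain ⟨i, rfl⟩ := mem_zpowers_iff.1 hz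
    exact (h.commute ha).zpow_left i
  -- the kernel of the action on `D` modulo `x`
  have hact : ∀ {g : L}, g ∈ N → ∀ {z : L}, z ∈ zpowers x → g * z * g⁻¹ = z := fun {g} hg {z} hz => by
    obtain ⟨i, rfl⟩ := mem_zpowers_iff.1 hz
    rw [((h.commute_normalizer hM hxM hg).zpow_right i).eq, mul_inv_cancel_right]
  rcases h.card_omegaTwo hM hcyc with hE | hH
  · let K : Subgroup L :=
      { carrier := {g | g ∈ N ∧ ∀ e ∈ D, g * e * g⁻¹ * e⁻¹ ∈ zpowers x}
        one_mem' := ⟨one_mem _, fun e _ => by simp⟩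
        mul_mem' := fun {a b} ha hb => ⟨mul_mem ha.1 hb.1, fun e he => by
          have h2 := mul_mem (ha.2 _ (conj_mem_omegaTwo h.ne_two hb.1 he)) (hb.2 e he)
          rwa [show a * (b * e * b⁻¹) * a⁻¹ * (b * e * b⁻¹)⁻¹ * (b * e * b⁻¹ * e⁻¹)
            = a * b * e * (a * b)⁻¹ * e⁻¹ by group] at h2⟩
        inv_mem' := fun {a} ha => ⟨inv_mem ha.1, fun e he => by
          have h2 := inv_mem (ha.2 _ (conj_mem_omegaTwo h.ne_two (inv_mem ha.1) he))
          rwa [show (a * (a⁻¹ * e * a⁻¹⁻¹) * a⁻¹ * (a⁻¹ * e * a⁻¹⁻¹)⁻¹)⁻¹ = a⁻¹ * e * a⁻¹⁻¹ * e⁻¹ by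
            group] at h2⟩ }
    refine hext K (fun g hg => hg.1) (fun g hg => ⟨hPN hg, fun e he =>
      h.plane_pGroup_act hM hxM hE (hPN hg) (exists_pow_eq_one hPp hg) he⟩) ?_ fun k hk hkc =>
      hcomm0 hk.1 fun a ha => h.plane_commute hM hxM hE hk.1 hkc hk.2 ha
    intro g hg
    refine mem_normalizer_fintype fun k hk => ⟨mul_mem (mul_mem hg hk.1) (inv_mem hg), fun e he => ?_⟩
    have h2 := hk.2 _ (conj_mem_omegaTwo h.ne_two (inv_mem hg) he)
    have h3 := hact hg h2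
    rw [show g * k * g⁻¹ * e * (g * k * g⁻¹)⁻¹ * e⁻¹
      = g * (k * (g⁻¹ * e * g⁻¹⁻¹) * k⁻¹ * (g⁻¹ * e * g⁻¹⁻¹)⁻¹) * g⁻¹ by group, h3]
    exact h2
  -- the extraspecial case
  let X := (zpowers x).subgroupOf D
  haveI : X.Normal := ⟨fun a ha b => mem_subgroupOf.2 (by
    simp only [Subgroup.coe_mul, Subgroup.coe_inv]
    rw [((hcxD (mem_subgroupOf.1 ha) (hM (hDM b.2))).symm).eq, mul_inv_cancel_right]
    exact mem_subgroupOf.1 ha)⟩
  let cj : N → D →* D := fun g =>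
    MonoidHom.mk' (fun d => ⟨g * d * (g : L)⁻¹, conj_mem_omegaTwo h.ne_two g.2 d.2⟩)
      fun a b => Subtype.ext (by simp [mul_assoc])
  have hX : ∀ g : N, X ≤ X.comap (cj g) := fun g a ha => by
    show cj g a ∈ X
    refine mem_subgroupOf.2 ?_
    show (g : L) * a * (g : L)⁻¹ ∈ zpowers x
    rw [hact g.2 (mem_subgroupOf.1 ha)]
    exact mem_subgroupOf.1 ha
  let V := D ⧸ X
  let ap : N → V →* V := fun g => QuotientGroup.map X X (cj g) (hX g)
  have hap_mk : ∀ (g : N) (d : D), ap g (QuotientGroup.mk d) = QuotientGroup.mk (cj g d) := fun g d => rfl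
  have hap_mul : ∀ (a b : N) (u : V), ap (a * b) u = ap a (ap b u) := by
    intro a b u
    obtain ⟨d, rfl⟩ := QuotientGroup.mk_surjective u
    rw [hap_mk, hap_mk, hap_mk]
    exact congrArg QuotientGroup.mk (Subtype.ext (by simp [cj]; group))
  have hap_one : ∀ u : V, ap 1 u = u := by
    intro u
    obtain ⟨d, rfl⟩ := QuotientGroup.mk_surjective u
    rw [hap_mk]
    exact congrArg QuotientGroup.mk (Subtype.ext (by simp [cj]))
  let Φ : N →* MulAut V := MonoidHom.mk'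
    (fun g =>
      { toFun := ap g
        invFun := ap g⁻¹
        left_inv := fun u => by rw [← hap_mul, inv_mul_cancel, hap_one]
        right_inv := fun u => by rw [← hap_mul, mul_inv_cancel, hap_one]
        map_mul' := map_mul (ap g) })
    fun a b => MulEquiv.ext fun u => hap_mul a b u
  have hVcomm : ∀ a b : V, a * b = b * a := by
    intro a b
    obtain ⟨d, rfl⟩ := QuotientGroup.mk_surjective a
    obtain ⟨e, rfl⟩ := QuotientGroup.mk_surjective b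
    rw [← QuotientGroup.mk_mul, ← QuotientGroup.mk_mul, QuotientGroup.eq, mem_subgroupOf]
    rw [show (((d * e)⁻¹ * (e * d) : D) : L) = ⁅(e : L)⁻¹, (d : L)⁻¹⁆ by
      simp [commutatorElement_def]; group]
    exact h.heis_comm_mem hM hxM hH (inv_mem e.2) (inv_mem (hDM d.2))
  letI : CommGroup V := { (inferInstance : Group V) with mul_comm := hVcomm }
  have hVcard : Nat.card V = p ^ 2 := by
    have h1 := card_eq_card_quotient_mul_card_subgroup X
    rw [hH, Nat.card_congr (subgroupOfEquivOfLe (zpowers_le.2 hxD)).toEquiv, h.card_zpowers_x] at h1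
    exact Nat.eq_of_mul_eq_mul_right hp.out.pos (h1.symm.trans (pow_succ p 2))
  have hVexp : ∀ u : V, u ^ p = 1 := by
    intro u
    obtain ⟨d, rfl⟩ := QuotientGroup.mk_surjective u
    rw [← QuotientGroup.mk_pow, show d ^ p = 1 from Subtype.ext (h.omegaTwo_pow d.2)]
    rfl
  set PN := P.subgroupOf N with hPNdef
  set Pb := PN.map Φ with hPb
  have hPbp : IsPGroup p Pb := (hPp.of_equiv (subgroupOfEquivOfLe hPN).symm).map Φ
  set K := (Pb.comap Φ).map N.subtype with hK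
  have hKN : K ≤ N := map_subtype_le _
  have hPK : P ≤ K := fun r hr => ⟨⟨r, hPN hr⟩, mem_map_of_mem Φ (mem_subgroupOf.2 hr), rfl⟩
  have hfix : ∀ k : N, Φ k = 1 → ∀ d ∈ D, (k : L) * d * (k : L)⁻¹ * d⁻¹ ∈ zpowers x := by
    intro k hk d hd
    have h1 := congrArg (fun σ : MulAut V => σ (QuotientGroup.mk (⟨d, hd⟩ : D))) hk
    have h2 := mem_subgroupOf.1 (QuotientGroup.eq.1 (h1 : QuotientGroup.mk (cj k ⟨d, hd⟩) = _))
    simp only [Subgroup.coe_mul, Subgroup.coe_inv] at h2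
    have h3 := inv_mem h2
    rw [show ((cj k ⟨d, hd⟩ : D) : L) = (k : L) * d * (k : L)⁻¹ from rfl, mul_inv_rev, inv_inv] at h3
    have e : (k : L) * d * (k : L)⁻¹ * d⁻¹ = d * (d⁻¹ * ((k : L) * d * (k : L)⁻¹)) * d⁻¹ := by group
    rw [e, ← (hcxD h3 (hM (hDM hd))).eq, mul_inv_cancel_right]
    exact h3
  by_cases hnormal : ∀ g : N, ∀ π ∈ Pb, Φ g * π * (Φ g)⁻¹ ∈ Pb
  · refine hext K hKN hPK ?_ fun k hk hkc => ?_
    · intro g hg
      refine mem_normalizer_fintype fun k hk => ?_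
      obtain ⟨k', hk', rfl⟩ := hk
      exact ⟨⟨g, hg⟩ * k' * ⟨g, hg⟩⁻¹, by
        rw [SetLike.mem_coe, mem_comap, map_mul, map_mul, map_inv]; exact hnormal _ _ hk', rfl⟩
    obtain ⟨k', hk', rfl⟩ := hk
    refine hcomm0 k'.2 fun a ha => h.heis_commute hM hxM hH k'.2 hkc (hfix k' ?_) ha
    refine eq_one_of_pow_coprime (p := p) (m := orderOf k') (exists_pow_eq_one hPbp hk') ?_ ?_
    · rwa [← orderOf_coe]
    · rw [← map_pow, pow_orderOf_eq_one, map_one]
  push Not at hnormal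
  obtain ⟨g₁, π, hπ, hgπ⟩ := hnormal
  obtain ⟨w, hw, hwinv⟩ := exists_inversion hVcard hVexp Pb hPbp (Φ g₁)
    fun hall => hgπ (hall π hπ)
  have hwr : w ∈ Φ.range := by
    refine (closure_le _).2 ?_ hw
    rintro σ (hσ | ⟨τ, ⟨a, -, rfl⟩, rfl⟩)
    · obtain ⟨a, -, rfl⟩ := hσ
      exact ⟨a, rfl⟩
    · exact ⟨g₁ * a * g₁⁻¹, by simp⟩
  obtain ⟨n₀, hn₀⟩ := hwr
  have hn0K : (n₀ : L) ∈ normalizer (K : Set L) := by
    refine mem_normalizer_fintype fun k hk => ?_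
    obtain ⟨k', hk', rfl⟩ := hk
    refine ⟨n₀ * k' * n₀⁻¹, ?_, rfl⟩
    rw [SetLike.mem_coe, mem_comap, map_mul, map_mul, map_inv, hn₀]
    have : w * Φ k' * w⁻¹ = Φ k' := by
      rw [mul_inv_eq_iff_eq_mul]
      refine MulEquiv.ext fun u => ?_
      rw [MulAut.mul_apply, MulAut.mul_apply, hwinv, hwinv, map_inv]
    rw [this]
    exact hk'
  have hidx : ¬ p ∣ P.relIndex K := fun hd =>
    hsyl (hd.trans (Dvd.intro _ (relIndex_mul_relIndex P K N hPK hKN)))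
  obtain ⟨k, hk, hkn⟩ := frattini_elem hPp hPK hidx hn0K
  obtain ⟨k', hk', rfl⟩ := hk
  obtain ⟨π', hπ', hπk⟩ := hk'
  have hθD : ∀ d ∈ D, ext θ d = 1 := by
    intro d hd
    have hg := hnorm hkn (mul_mem k'.2 n₀.2)
    have h1 := hg.2 d (hDM hd)
    have hπR : (π' : L) ∈ R := (mem_subgroupOf.1 hπ').1
    -- the images agree modulo `x`
    have h2 : Φ (k' * n₀) (QuotientGroup.mk (⟨d, hd⟩ : D)) = Φ π' (QuotientGroup.mk (⟨d, hd⟩ : D))⁻¹ := by
      rw [map_mul, MulAut.mul_apply, hn₀, hwinv, hπk]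
    rw [← QuotientGroup.mk_inv] at h2
    have h3 := mem_subgroupOf.1 (QuotientGroup.eq.1
      (h2 : QuotientGroup.mk (cj (k' * n₀) ⟨d, hd⟩) = QuotientGroup.mk (cj π' ⟨d, hd⟩⁻¹)))
    have ha : ((cj (k' * n₀) ⟨d, hd⟩ : D) : L) = (k' : L) * n₀ * d * ((k' : L) * n₀)⁻¹ := rfl
    have hb : ((cj π' ⟨d, hd⟩⁻¹ : D) : L) = (π' : L) * d⁻¹ * (π' : L)⁻¹ := rfl
    simp only [Subgroup.coe_mul, Subgroup.coe_inv, ha, hb] at h3
    change ext θ ((k' : L) * n₀ * d * ((k' : L) * n₀)⁻¹) = ext θ d at h1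
    have haR : (k' : L) * n₀ * d * ((k' : L) * n₀)⁻¹ ∈ R := hcm (mul_mem k'.2 n₀.2) (hDM hd)
    have hbR : (π' : L) * d⁻¹ * (π' : L)⁻¹ ∈ R := mul_mem (mul_mem hπR (inv_mem (hM (hDM hd)))) (inv_mem hπR)
    have h4 := h.ext_zpow_x θ h3
    rw [ext_mul θ (inv_mem haR) hbR, ext_inv θ haR, h1, ext_conj θ (inv_mem (hM (hDM hd))) hπR,
      ext_inv θ (hM (hDM hd)), ← mul_inv, inv_eq_one, ← pow_two] at h4
    have hdp : ext θ d ^ p = 1 := by
      rw [ext_eq θ (hM (hDM hd)), ← map_pow,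
        show (⟨d, hM (hDM hd)⟩ : R) ^ p = 1 from Subtype.ext (h.omegaTwo_pow hd), map_one]
    exact eq_one_of_pow_coprime (p := p) ⟨1, by rwa [pow_one]⟩
      ((Nat.coprime_primes Nat.prime_two hp.out).2 h.ne_two.symm) h4
  refine le_of_sylow_of_coprime hPp hPN hsyl hP0 fun g hg hgc => ⟨hg, fun a ha => ?_⟩
  obtain ⟨d, hd, c, hc, rfl⟩ := h.heis_decomp hM hxM hH ha
  have hgc' := (h.heis_commute_centralizer hM hxM hH hg hgc hc).eq
  rw [show g * (d * c) * g⁻¹ = (g * d * g⁻¹) * (g * c * g⁻¹) by group, hgc', mul_inv_cancel_right,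
    ext_mul θ (hcm hg (hDM hd)) (hM hc.1), ext_mul θ (hM (hDM hd)) (hM hc.1), hθD d hd,
    hθD _ (conj_mem_omegaTwo h.ne_two hg hd)]

/-- A homomorphism invariant under `N(R)` is trivial. -/
theorem eq_one_of_invariant
    (hN : ∀ g ∈ normalizer (R : Set L), ∀ r ∈ R, ext θ (g * r * g⁻¹) = ext θ r) (r : R) : θ r = 1 := by
  classical
  suffices hgood : ∀ M : Subgroup L, M ≤ R → ∀ g : L, (∀ m ∈ M, g * m * g⁻¹ ∈ R) →
      ∀ m ∈ M, ext θ (g * m * g⁻¹) = ext θ m by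
    refine h.map_eq_one_of_fusion θ (fun g s hm => ?_) r
    have h1 := hgood (zpowers (s : L)) (zpowers_le.2 s.2) g (fun m hmz => by
      obtain ⟨i, rfl⟩ := mem_zpowers_iff.1 hmz
      rw [← conj_zpow]
      exact zpow_mem hm i) s (mem_zpowers _)
    rwa [ext_eq θ hm, ext_eq θ s.2] at h1
  by_contra hbad
  push Not at hbad
  obtain ⟨M, ⟨hM, g, hg, m, hm, hne⟩, hmax⟩ := Set.exists_max_image
    {M : Subgroup L | M ≤ R ∧ ∃ g : L, (∀ m ∈ M, g * m * g⁻¹ ∈ R) ∧ ∃ m ∈ M, ext θ (g * m * g⁻¹) ≠ ext θ m}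
    (fun M => Nat.card M) (Set.toFinite _) hbad
  have hbig : ∀ M' : Subgroup L, M' ≤ R → Nat.card M < Nat.card M' → ∀ g : L,
      (∀ m ∈ M', g * m * g⁻¹ ∈ R) → ∀ m ∈ M', ext θ (g * m * g⁻¹) = ext θ m := by
    intro M' hM' hlt g' hg' m' hm'
    by_contra hne'
    exact absurd (hmax M' ⟨hM', g', hg', m', hm', hne'⟩) (not_le.2 hlt)
  -- `M` contains `x`
  have hxM : x ∈ M := by
    by_contra hx
    set Mg := M.map (MulAut.conj g).toMonoidHom with hMg
    set C := centralizer (Mg : Set L)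
    have hMgR : Mg ≤ R := by
      rintro _ ⟨a, ha, rfl⟩
      exact hg a ha
    have hxC : x ∈ C := fun a ha => (h.commute (hMgR ha)).symm.eq
    have hxC' : g * x * g⁻¹ ∈ C := by
      rintro _ ⟨a, ha, rfl⟩
      exact (((h.commute (hM ha)).symm).map (MulAut.conj g).toMonoidHom).eq
    obtain ⟨c, hc, hce⟩ := isolated_exists_conj h.isolated h.prime_pow hxC hxC'
    set M1 := M ⊔ zpowers x
    have hM1 : M1 ≤ R.comap (MulAut.conj (c * g)).toMonoidHom := by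
      refine sup_le (fun a ha => ?_) (zpowers_le.2 ?_)
      · show c * g * a * (c * g)⁻¹ ∈ R
        rw [show c * g * a * (c * g)⁻¹ = c * (g * a * g⁻¹) * c⁻¹ by group,
          ← mem_centralizer_iff.1 hc (g * a * g⁻¹) ⟨a, ha, rfl⟩, mul_inv_cancel_right]
        exact hg a ha
      · show c * g * x * (c * g)⁻¹ ∈ R
        rw [show c * g * x * (c * g)⁻¹ = c * (g * x * g⁻¹) * c⁻¹ by group, hce]
        exact h.mem
    have hlt : Nat.card M < Nat.card M1 :=
      Set.Finite.card_lt_card (Set.toFinite _) (SetLike.coe_ssubset_coe.2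
        (lt_of_le_of_ne le_sup_left fun e => hx (e.ge (mem_sup_right (mem_zpowers x)))))
    have h1 := hbig M1 (sup_le hM (zpowers_le.2 h.mem)) hlt (c * g) (fun a ha => hM1 ha) m (mem_sup_left hm)
    rw [show c * g * m * (c * g)⁻¹ = c * (g * m * g⁻¹) * c⁻¹ by group,
      ← mem_centralizer_iff.1 hc (g * m * g⁻¹) ⟨m, hm, rfl⟩, mul_inv_cancel_right] at h1
    exact hne h1
  have hMR : M ≠ R := by
    intro e
    subst e
    exact hne (hN g (mem_normalizer_fintype hg) m hm)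
  have hlt : ∀ {M' : Subgroup L}, M' ≤ R → Nat.card M' = Nat.card M →
      Nat.card M < Nat.card ↥(R ⊓ normalizer (M' : Set L)) := by
    intro M' hM' hc
    rw [← hc]
    refine Set.Finite.card_lt_card (Set.toFinite _) (SetLike.coe_ssubset_coe.2
      (Cfsg.Lib.Fusion.lt_inf_normalizer h.isPGroup (lt_of_le_of_ne hM' fun e => hMR ?_)))
    exact eq_of_le_of_card_ge hM (by rw [← hc, e])
  obtain ⟨a, haR, hamap, hasyl⟩ := exists_fully_normalized (p := p) h.isPGroup h.sylow hM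
  have ha1 : ∀ b ∈ M, ext θ (a * b * a⁻¹) = ext θ b := fun b hb =>
    hbig _ inf_le_left (hlt hM rfl) a hamap b ⟨hM hb, le_normalizer hb⟩
  set M' := M.map (MulAut.conj a).toMonoidHom with hM'
  have hcard' : Nat.card M' = Nat.card M := card_map_of_injective (MulAut.conj a).injective
  set g' := g * a⁻¹ with hg'
  have hg'm : g' * (a * m * a⁻¹) * g'⁻¹ = g * m * g⁻¹ := by rw [hg']; group
  have hg'R : ∀ b ∈ M', g' * b * g'⁻¹ ∈ R := by
    rintro _ ⟨b, hb, rfl⟩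
    rw [MulEquiv.coe_toMonoidHom, MulAut.conj_apply,
      show g' * (a * b * a⁻¹) * g'⁻¹ = g * b * g⁻¹ by rw [hg']; group]
    exact hg b hb
  set M'' := M'.map (MulAut.conj g').toMonoidHom with hM''
  have hM''R : M'' ≤ R := by
    rintro _ ⟨b, hb, rfl⟩
    exact hg'R b hb
  set N' := normalizer (M' : Set L) with hN'
  set P' := R ⊓ N' with hP'
  set Q := (R ⊓ normalizer (M'' : Set L)).map (MulAut.conj g'⁻¹).toMonoidHom with hQ
  have hQN : Q ≤ N' := by
    rintro _ ⟨b, hb, rfl⟩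
    refine mem_normalizer_fintype fun c hc => ?_
    have h1 := conj_mem_of_normalizer hb.2 (show g' * c * g'⁻¹ ∈ M'' from ⟨c, hc, rfl⟩)
    obtain ⟨c', hc', hce⟩ := h1
    simp only [MulEquiv.coe_toMonoidHom, MulAut.conj_apply] at hce ⊢
    rw [show g'⁻¹ * b * g'⁻¹⁻¹ * c * (g'⁻¹ * b * g'⁻¹⁻¹)⁻¹
      = g'⁻¹ * (b * (g' * c * g'⁻¹) * b⁻¹) * g' by group, ← hce]
    convert hc' using 1
    group
  obtain ⟨n, hn, hnQ⟩ : ∃ n ∈ N', ∀ b ∈ Q, n * b * n⁻¹ ∈ P' := by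
    let S : Sylow p N' := ((h.isPGroup.to_le inf_le_left : IsPGroup p P').of_equiv
      (subgroupOfEquivOfLe (inf_le_right : P' ≤ N')).symm).toSylow hasyl
    obtain ⟨S', hS'⟩ := (((h.isPGroup.to_le inf_le_left).map _ : IsPGroup p Q).of_equiv
      (subgroupOfEquivOfLe hQN).symm).exists_le_sylow
    obtain ⟨n, hn⟩ := MulAction.exists_smul_eq N' S' S
    refine ⟨n, n.2, fun b hb => ?_⟩
    have h1 : n * ⟨b, hQN hb⟩ * n⁻¹ ∈ (S : Subgroup N') := by
      rw [← hn]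
      exact ⟨_, hS' (mem_subgroupOf.2 hb), rfl⟩
    exact mem_subgroupOf.1 h1
  have hcard'' : Nat.card M'' = Nat.card M :=
    (card_map_of_injective (MulAut.conj g').injective).trans hcard'
  have ham : a * m * a⁻¹ ∈ M' := ⟨m, hm, rfl⟩
  have h2 := hbig _ inf_le_left (hlt hM''R hcard'') (n * g'⁻¹) (fun b hb => by
    rw [show n * g'⁻¹ * b * (n * g'⁻¹)⁻¹ = n * (g'⁻¹ * b * g'⁻¹⁻¹) * n⁻¹ by group]
    exact (hnQ _ ⟨b, hb, rfl⟩).1) (g * m * g⁻¹) ⟨hg m hm, le_normalizer ⟨_, ham, hg'm⟩⟩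
  rw [show n * g'⁻¹ * (g * m * g⁻¹) * (n * g'⁻¹)⁻¹ = n * (a * m * a⁻¹) * n⁻¹ by rw [hg']; group] at h2
  have hM'R : M' ≤ R := haR
  have hxM' : x ∈ M' := by
    refine ⟨x, hxM, ?_⟩
    exact h.fix (hamap x ⟨h.mem, le_normalizer hxM⟩)
  have h3 := h.step θ hM'R hxM' hasyl
    (hbig _ inf_le_left (hlt hM'R hcard')) hn ham
  rw [h3, ha1 m hm] at h2
  exact hne h2.symm

/-- An element fixed by `N(R)` modulo `[R, R]` lies in `[R, R]`. -/
theorem mem_commutator_of_fixed {r : L} (hr : r ∈ R)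
    (hfix : ∀ g ∈ normalizer (R : Set L), g * r * g⁻¹ * r⁻¹ ∈ ⁅R, R⁆) : r ∈ ⁅R, R⁆ := by
  classical
  set N := normalizer (R : Set L) with hN
  haveI : (R.subgroupOf N).Normal := Subgroup.normal_in_normalizer
  let θ₀ : R →* Abelianization R := Abelianization.of
  let cj : N → R → R := fun n s => ⟨n * s * (n : L)⁻¹, conj_mem_of_normalizer n.2 s.2⟩
  let Q := N ⧸ R.subgroupOf N
  haveI : Fintype Q := Fintype.ofFinite Q
  have hinner : ∀ (n u : N) (s : R), (u : L) ∈ R → θ₀ (cj (n * u) s) = θ₀ (cj n s) := by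
    intro n u s hu
    have hu' : (n : L) * u * (n : L)⁻¹ ∈ R := conj_mem_of_normalizer n.2 hu
    have e : cj (n * u) s = ⟨_, hu'⟩ * cj n s * ⟨_, hu'⟩⁻¹ := Subtype.ext (by simp [cj]; group)
    rw [e, map_mul, map_mul, map_inv, mul_right_comm, mul_inv_cancel, one_mul]
  have hmul : ∀ (n : N) (a b : R), cj n (a * b) = cj n a * cj n b := fun n a b =>
    Subtype.ext (by simp [cj, mul_assoc])
  let Θ : R →* Abelianization R := MonoidHom.mk' (fun s => ∏ q : Q, θ₀ (cj q.out s)) fun a b => by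
    simp only [hmul, map_mul, Finset.prod_mul_distrib]
  have hinv : ∀ (g : N) (s : R), Θ (cj g s) = Θ s := by
    intro g s
    show ∏ q : Q, θ₀ (cj q.out (cj g s)) = ∏ q : Q, θ₀ (cj q.out s)
    refine Fintype.prod_equiv (Equiv.mulRight (QuotientGroup.mk g : Q)) _ _ fun q => ?_
    have hc : cj q.out (cj g s) = cj (q.out * g) s := Subtype.ext (by simp [cj]; group)
    rw [hc]
    have hq : (QuotientGroup.mk (q.out * g) : Q) = q * QuotientGroup.mk g := by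
      rw [QuotientGroup.mk_mul, QuotientGroup.out_eq']
    show θ₀ (cj (q.out * g) s) = θ₀ (cj (q * QuotientGroup.mk g : Q).out s)
    obtain ⟨u, hu⟩ := QuotientGroup.mk_out_eq_mul (R.subgroupOf N) (q.out * g)
    rw [← hq, hu]
    exact (hinner _ _ _ (mem_subgroupOf.1 u.2)).symm
  have hval : Θ ⟨r, hr⟩ = θ₀ ⟨r, hr⟩ ^ Fintype.card Q := by
    show ∏ q : Q, θ₀ (cj q.out ⟨r, hr⟩) = _
    rw [Finset.prod_eq_pow_card (b := θ₀ ⟨r, hr⟩) fun q _ => ?_, Finset.card_univ]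
    rw [← div_eq_one, ← map_div, ← MonoidHom.mem_ker, Abelianization.ker_of]
    have h1 := hfix _ q.out.2
    rw [← map_subtype_commutator] at h1
    obtain ⟨z, hz, hze⟩ := h1
    have e : cj q.out ⟨r, hr⟩ / ⟨r, hr⟩ = z := Subtype.ext (by
      rw [div_eq_mul_inv]; exact hze.symm)
    rwa [e]
  -- `Θ` is invariant, hence trivial once the fusion is controlled
  have hcop : (Fintype.card Q).Coprime p := by
    rw [← Nat.card_eq_fintype_card]
    refine Nat.coprime_comm.1 ((Nat.Prime.coprime_iff_not_dvd hp.out).2 fun hd => h.sylow ?_)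
    rw [← relIndex_mul_index (le_normalizer : R ≤ N)]
    exact dvd_mul_of_dvd_left hd _
  suffices h1 : Θ ⟨r, hr⟩ = 1 by
    rw [hval] at h1
    obtain ⟨k, hk⟩ := h.isPGroup ⟨r, hr⟩
    have h2 : θ₀ ⟨r, hr⟩ = 1 :=
      eq_one_of_pow_coprime (p := p) ⟨k, by rw [← map_pow, hk, map_one]⟩ hcop h1
    rw [← MonoidHom.mem_ker, Abelianization.ker_of] at h2
    have h3 := mem_map_of_mem R.subtype h2
    rwa [map_subtype_commutator] at h3
  refine h.eq_one_of_invariant Θ (fun g hg s hs => ?_) _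
  rw [ext_eq Θ hs, ext_eq Θ (conj_mem_of_normalizer hg hs)]
  exact hinv ⟨g, hg⟩ ⟨s, hs⟩

end Setup

end Cfsg.Lib.Local.IsolatedTwo
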