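import Cfsg.Agent.Lib.Local.IsolatedTwo.Basic
import Cfsg.Agent.Lib.Local.IsolatedRankTwo
import Cfsg.Agent.Lib.PGroup.Huppert
import Cfsg.Agent.Lib.PGroup.Noncyclic
import Cfsg.Agent.S0126

/-!
# The shape of a `p`-group of rank two containing the isolated element in its centre
-/

set_option autoImplicit false
set_option linter.style.haveILetI false

namespace Cfsg.Lib.Local.IsolatedTwo

open Subgroup
open scoped commutatorElement

universe u

variable {L : Type u} [Group L]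

/-- The elements killed by `p` in the second centre of `M`. -/
def omegaTwo (p : ℕ) (M : Subgroup L) : Subgroup L :=
  closure {z | z ∈ M ∧ z ^ p = 1 ∧ ∀ m ∈ M, ∀ m' ∈ M, Commute ⁅z, m⁆ m'}

variable {p : ℕ} [hp : Fact p.Prime]

theorem mem_omegaTwo (h2 : p ≠ 2) {M : Subgroup L} {z : L} :
    z ∈ omegaTwo p M ↔ z ∈ M ∧ z ^ p = 1 ∧ ∀ m ∈ M, ∀ m' ∈ M, Commute ⁅z, m⁆ m' := by
  refine ⟨fun hz => ?_, fun hz => subset_closure hz⟩
  induction hz using closure_induction with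
  | mem z hz => exact hz
  | one => exact ⟨one_mem _, one_pow _, fun m _ m' _ => by simp⟩
  | mul a b _ _ ha hb =>
    refine ⟨mul_mem ha.1 hb.1, ?_, fun m hm m' hm' => ?_⟩
    · have hc : ∀ m ∈ M, Commute ⁅b, a⁆ m := hb.2.2 a ha.1
      have e : b * a * b⁻¹ = ⁅b, a⁆ * a := by rw [commutatorElement_def]; group
      have h1 := congrArg (· ^ p) e
      simp only [conj_pow, ha.2.1, mul_one, mul_inv_cancel, (hc a ha.1).mul_pow] at h1
      have hA : (⟨⁅b, a⁆, by rw [commutatorElement_def]; exact mul_mem (mul_mem (mul_mem hb.1 ha.1) (inv_mem hb.1)) (inv_mem ha.1)⟩ : M) ∈ center M :=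
        mem_center_iff.2 fun g => Subtype.ext (hc g g.2).symm.eq
      have h3 := Cfsg.Lib.PGroup.Huppert.mul_pow_of_central_comm (⟨a, ha.1⟩ : M) ⟨b, hb.1⟩
        (by
          have e2 : ⁅(⟨b, hb.1⟩ : M), (⟨a, ha.1⟩ : M)⁆ =
              ⟨⁅b, a⁆, by rw [commutatorElement_def]; exact mul_mem (mul_mem (mul_mem hb.1 ha.1) (inv_mem hb.1)) (inv_mem ha.1)⟩ :=
            Subtype.ext (by simp [commutatorElement_def])
          rw [e2]; exact hA) p
      have h4 := congrArg Subtype.val h3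
      simp [commutatorElement_def] at h4
      rw [h4, ha.2.1, hb.2.1, one_mul, one_mul, ← commutatorElement_def]
      obtain ⟨j, hj⟩ := hp.out.dvd_choose_self two_ne_zero (lt_of_le_of_ne hp.out.two_le (Ne.symm h2))
      rw [hj, pow_mul, ← h1, one_pow]
    · rw [commutatorElement_mul_left_eq_conj_mul]
      have h1 := hb.2.2 m hm a ha.1
      rw [h1.symm.eq, mul_inv_cancel_right]
      exact (hb.2.2 m hm m' hm').mul_left (ha.2.2 m hm m' hm')
  | inv a _ ha =>
    refine ⟨inv_mem ha.1, by rw [inv_pow, ha.2.1, inv_one], fun m hm m' hm' => ?_⟩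
    have e : ⁅a⁻¹, m⁆ = a⁻¹ * ⁅a, m⁆⁻¹ * a := by simp only [commutatorElement_def]; group
    rw [e, (ha.2.2 m hm a ha.1).inv_left.symm.inv_left.eq, inv_mul_cancel_right]
    exact (ha.2.2 m hm m' hm').inv_left

theorem omegaTwo_le (h2 : p ≠ 2) (M : Subgroup L) : omegaTwo p M ≤ M := fun _ hz =>
  ((mem_omegaTwo h2).1 hz).1

theorem conj_mem_omegaTwo (h2 : p ≠ 2) {M : Subgroup L} {g z : L}
    (hg : g ∈ normalizer (M : Set L)) (hz : z ∈ omegaTwo p M) : g * z * g⁻¹ ∈ omegaTwo p M := by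
  obtain ⟨h1, h3, h4⟩ := (mem_omegaTwo h2).1 hz
  refine (mem_omegaTwo h2).2 ⟨conj_mem_of_normalizer hg h1, by rw [conj_pow, h3]; simp, fun m hm m' hm' => ?_⟩
  have hg' : g⁻¹ ∈ normalizer (M : Set L) := inv_mem hg
  have h5 := (h4 _ (conj_mem_of_normalizer hg' hm) _ (conj_mem_of_normalizer hg' hm')).map
    (MulAut.conj g).toMonoidHom
  simpa [commutatorElement_def, mul_assoc] using h5

namespace Setup

variable [Finite L] {R : Subgroup L} {x : L} (h : Setup p R x) {M : Subgroup L}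
include h

theorem commute_mem (hM : M ≤ R) {m : L} (hm : m ∈ M) : Commute x m := h.commute (hM hm)

omit [Finite L] hp in
theorem isPGroup_of_le (hM : M ≤ R) : IsPGroup p M := h.isPGroup.to_le hM

theorem coprime_card (hM : M ≤ R) {g : L} (hg : (orderOf g).Coprime p) :
    (Nat.card (zpowers g)).Coprime (Nat.card M) := by
  obtain ⟨k, hk⟩ := IsPGroup.iff_card.1 (h.isPGroup_of_le hM)
  rw [Nat.card_zpowers, hk]
  exact hg.pow_right k

/-- An element prime to `p` centralizing every element of order `p` of `C` centralizes `C`. -/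
theorem commute_of_omega (hM : M ≤ R) {g : L} (hg : (orderOf g).Coprime p)
    (hgM : g ∈ normalizer (M : Set L)) (hw : ∀ q ∈ M, q ^ p = 1 → Commute g q) {m : L} (hm : m ∈ M) :
    Commute g m := by
  have h1 := Cfsg.Lib.PGroup.le_centralizer_of_centralizes_omega h.ne_two (zpowers g) M
    (h.isPGroup_of_le hM) (zpowers_le.2 hgM) (h.coprime_card hM hg) (fun q hq hq1 a ha => by
      obtain ⟨i, rfl⟩ := mem_zpowers_iff.1 ha
      exact ((hw q hq hq1).zpow_left i).eq) (mem_zpowers g)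
  exact (mem_centralizer_iff.1 h1 m hm).symm

omit [Finite L] in
theorem card_zpowers_x : Nat.card (zpowers x) = p := by rw [Nat.card_zpowers, h.orderOf_eq]

/-- In a cyclic `p`-subgroup the elements killed by `p` are powers of `x`. -/
theorem mem_zpowers_of_cyclic (hxM : x ∈ M) (hc : IsCyclic M) {q : L} (hq : q ∈ M) (hqp : q ^ p = 1) :
    q ∈ zpowers x := by
  by_cases hq1 : q = 1
  · rw [hq1]; exact one_mem _
  have h1 : zpowers (⟨q, hq⟩ : M) = zpowers (⟨x, hxM⟩ : M) := by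
    have hq' : (⟨q, hq⟩ : M) ^ p = 1 := Subtype.ext hqp
    have hx' : (⟨x, hxM⟩ : M) ^ p = 1 := Subtype.ext h.pow_eq
    have hq1' : (⟨q, hq⟩ : M) ≠ 1 := fun e => hq1 (congrArg Subtype.val e)
    have hx1' : (⟨x, hxM⟩ : M) ≠ 1 := fun e => h.ne_one (congrArg Subtype.val e)
    classical
    haveI := hc
    letI := Fintype.ofFinite M
    let S : Finset M := Finset.univ.filter fun a => a ^ p = 1
    have hS : S.card ≤ p := IsCyclic.card_pow_eq_one_le hp.out.pos
    have hsub : ∀ a : M, a ≠ 1 → a ^ p = 1 → (zpowers a : Set M).toFinset = S := by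
      intro a ha hap
      refine Finset.eq_of_subset_of_card_le (fun b hb => ?_) ?_
      · obtain ⟨i, rfl⟩ := mem_zpowers_iff.1 (Set.mem_toFinset.1 hb)
        refine Finset.mem_filter.2 ⟨Finset.mem_univ _, ?_⟩
        rw [← zpow_natCast, zpow_comm, zpow_natCast, hap, one_zpow]
      · rw [Set.toFinset_card]
        refine hS.trans (le_of_eq ?_)
        rw [← Nat.card_eq_fintype_card]
        exact ((Nat.card_zpowers a).trans (orderOf_eq_prime hap ha)).symm
    ext b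
    rw [← SetLike.mem_coe, ← Set.mem_toFinset, hsub _ hq1' hq', ← hsub _ hx1' hx', Set.mem_toFinset,
      SetLike.mem_coe]
  obtain ⟨i, hi⟩ := mem_zpowers_iff.1 (h1 ▸ mem_zpowers (⟨q, hq⟩ : M))
  exact mem_zpowers_iff.2 ⟨i, by simpa using congrArg Subtype.val hi⟩

theorem commute_of_cyclic (hM : M ≤ R) (hxM : x ∈ M) (hc : IsCyclic M) {g : L}
    (hg : (orderOf g).Coprime p) (hgM : g ∈ normalizer (M : Set L)) {m : L} (hm : m ∈ M) :
    Commute g m := by
  refine h.commute_of_omega hM hg hgM (fun q hq hqp => ?_) hm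
  obtain ⟨i, rfl⟩ := mem_zpowers_iff.1 (h.mem_zpowers_of_cyclic hxM hc hq hqp)
  exact (h.commute_normalizer hM hxM hgM).zpow_right i

theorem x_mem_omegaTwo (hM : M ≤ R) (hxM : x ∈ M) : x ∈ omegaTwo p M :=
  (mem_omegaTwo h.ne_two).2 ⟨hxM, h.pow_eq, fun m hm m' _ => by
    rw [commutatorElement_eq_one_iff_mul_comm.2 (h.commute_mem hM hm).eq]
    exact Commute.one_left m'⟩

omit [Finite L] in
theorem omegaTwo_pow {z : L} (hz : z ∈ omegaTwo p M) : z ^ p = 1 := ((mem_omegaTwo h.ne_two).1 hz).2.1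

theorem card_omegaTwo_le : Nat.card (omegaTwo p M) ≤ p ^ 3 := by
  refine Cfsg.Lib.PGroup.Huppert.card_le_of_exponent (fun z => Subtype.ext (h.omegaTwo_pow z.2))
    fun E hE => ?_
  rw [← card_map_of_injective (K := E) (omegaTwo p M).subtype_injective]
  have h1 := Cfsg.Lib.PGroup.isElementaryAbelian_map hE (omegaTwo p M).subtype
  exact h.rank _ h1.1 h1.2

theorem sq_le_card_omegaTwo (hM : M ≤ R) (hc : ¬ IsCyclic M) : p ^ 2 ≤ Nat.card (omegaTwo p M) := by
  have hMp := h.isPGroup_of_le hM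
  obtain ⟨A, hAn, hA, hAc⟩ := Cfsg.Agent.S0126.result h.ne_two hMp hc
  haveI := hAn
  rw [← hAc, ← card_map_of_injective (K := A) M.subtype_injective]
  refine card_le_of_le ?_
  rintro _ ⟨a, ha, rfl⟩
  refine (mem_omegaTwo h.ne_two).2 ⟨a.2, ?_, fun m hm m' hm' => ?_⟩
  · exact congrArg Subtype.val (hA.2 a ha)
  have hlt : ⁅A, (⊤ : Subgroup M)⁆ < A := Cfsg.Lib.PGroup.commutator_lt_of_isPGroup
    (hMp.to_subgroup A) (hMp.to_subgroup ⊤) (by rw [normalizer_eq_top_iff.2 hAn])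
    (fun e => by
      rw [e, card_bot] at hAc
      exact absurd hAc (Nat.one_lt_pow two_ne_zero hp.out.one_lt).ne)
  have hmem : ⁅a, (⟨m, hm⟩ : M)⁆ ∈ ⁅A, (⊤ : Subgroup M)⁆ := commutator_mem_commutator ha (mem_top _)
  have hcen : ⁅A, (⊤ : Subgroup M)⁆ ≤ center M := by
    obtain ⟨j, hj⟩ := IsPGroup.iff_card.1 (hMp.to_subgroup ⁅A, (⊤ : Subgroup M)⁆)
    have hj2 : j < 2 := by
      by_contra hge
      have h1 := Set.Finite.card_lt_card (Set.toFinite (A : Set M)) (SetLike.coe_ssubset_coe.2 hlt)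
      simp only [SetLike.coe_sort_coe] at h1
      rw [hj, hAc] at h1
      exact absurd h1 (not_lt.2 (Nat.pow_le_pow_right hp.out.pos (by omega)))
    interval_cases j
    · rw [eq_bot_of_card_eq _ (hj.trans (pow_zero p))]
      exact bot_le
    · exact Cfsg.Lib.PGroup.le_center_of_card_eq_prime hMp (by rw [hj, pow_one])
  have h2 := congrArg Subtype.val (mem_center_iff.1 (hcen hmem) ⟨m', hm'⟩)
  exact (show Commute m' ⁅(a : L), m⁆ from h2).symm

theorem card_omegaTwo (hM : M ≤ R) (hc : ¬ IsCyclic M) :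
    Nat.card (omegaTwo p M) = p ^ 2 ∨ Nat.card (omegaTwo p M) = p ^ 3 := by
  obtain ⟨j, hj⟩ := IsPGroup.iff_card.1 (h.isPGroup_of_le ((omegaTwo_le h.ne_two M).trans hM))
  have h1 := h.sq_le_card_omegaTwo hM hc
  have h3 := h.card_omegaTwo_le (M := M)
  rw [hj] at h1 h3 ⊢
  rcases (show j = 2 ∨ j = 3 by
    have := (Nat.pow_le_pow_iff_right hp.out.one_lt).1 h1
    have := (Nat.pow_le_pow_iff_right hp.out.one_lt).1 h3
    omega) with rfl | rfl <;> simp

/-- Two commuting elements of order dividing `p` together with `x`. -/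
theorem exists_zpow_mul {y q : L} (hy : y ^ p = 1) (hyx : y ∉ zpowers x) (hxy : Commute x y)
    (hq : q ^ p = 1) (hxq : Commute x q) (hyq : Commute y q) : ∃ i j : ℤ, q = x ^ i * y ^ j :=
  Cfsg.Lib.Local.IsolatedRankTwo.exists_zpow_mul h.rank h.orderOf_eq
    (orderOf_eq_prime hy fun e => hyx (e ▸ one_mem _)) hq hxy hxq hyq hyx

/-! ### The case of a plane -/

section Plane

theorem exists_plane (hM : M ≤ R) (hxM : x ∈ M) (hE : Nat.card (omegaTwo p M) = p ^ 2) :
    ∃ y ∈ omegaTwo p M, y ∉ zpowers x ∧ ∀ e ∈ omegaTwo p M, ∃ i j : ℤ, e = x ^ i * y ^ j := by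
  obtain ⟨y, hy, hyx⟩ : ∃ y ∈ omegaTwo p M, y ∉ zpowers x := by
    by_contra! hall
    have := card_le_of_le (H := omegaTwo p M) (K := zpowers x) hall
    rw [hE, h.card_zpowers_x] at this
    exact absurd this (not_le.2 (lt_self_pow₀ hp.out.one_lt one_lt_two))
  refine ⟨y, hy, hyx, fun e he => ?_⟩
  have hcomm : ∀ a ∈ omegaTwo p M, ∀ b ∈ omegaTwo p M, Commute a b := fun a ha b hb =>
    congrArg Subtype.val (IsPGroup.commutative_of_card_eq_prime_sq hE ⟨a, ha⟩ ⟨b, hb⟩)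
  exact h.exists_zpow_mul (h.omegaTwo_pow hy) hyx (hcomm _ (h.x_mem_omegaTwo hM hxM) _ hy)
    (h.omegaTwo_pow he) (hcomm _ (h.x_mem_omegaTwo hM hxM) _ he) (hcomm _ hy _ he)

theorem plane_comm (hE : Nat.card (omegaTwo p M) = p ^ 2) {a b : L} (ha : a ∈ omegaTwo p M)
    (hb : b ∈ omegaTwo p M) : Commute a b :=
  congrArg Subtype.val (IsPGroup.commutative_of_card_eq_prime_sq hE ⟨a, ha⟩ ⟨b, hb⟩)

/-- A `p`-element normalizing `M` fixes the plane modulo `x`. -/
theorem plane_pGroup_act (hM : M ≤ R) (hxM : x ∈ M) (hE : Nat.card (omegaTwo p M) = p ^ 2) {g : L}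
    (hg : g ∈ normalizer (M : Set L)) (hgp : ∃ k : ℕ, g ^ p ^ k = 1) {e : L} (he : e ∈ omegaTwo p M) :
    g * e * g⁻¹ * e⁻¹ ∈ zpowers x := by
  obtain ⟨y, hy, hyx, hgen⟩ := h.exists_plane hM hxM hE
  have hgx := h.commute_normalizer hM hxM hg
  have hxy : Commute x y := h.plane_comm hE (h.x_mem_omegaTwo hM hxM) hy
  obtain ⟨i, j, hij⟩ := hgen _ (conj_mem_omegaTwo h.ne_two hg hy)
  have hpow : ∀ n : ℕ, ∃ i' : ℤ, g ^ n * y * (g ^ n)⁻¹ = x ^ i' * y ^ (j ^ n) := by
    intro n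
    induction n with
    | zero => exact ⟨0, by simp⟩
    | succ n ih =>
      obtain ⟨i', hi'⟩ := ih
      refine ⟨i' + i * j ^ n, ?_⟩
      have e1 : g ^ (n + 1) * y * (g ^ (n + 1))⁻¹ = g * (g ^ n * y * (g ^ n)⁻¹) * g⁻¹ := by
        rw [pow_succ']; group
      rw [e1, hi', show g * (x ^ i' * y ^ (j ^ n)) * g⁻¹ = g * x ^ i' * g⁻¹ * (g * y ^ (j ^ n) * g⁻¹) by group,
        (hgx.zpow_right i').eq, mul_inv_cancel_right, ← conj_zpow, hij, (hxy.zpow_zpow i j).mul_zpow,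
        ← _root_.zpow_mul, ← _root_.zpow_mul, ← mul_assoc, ← _root_.zpow_add, pow_succ']
  obtain ⟨k, hk⟩ := hgp
  obtain ⟨i', hi'⟩ := hpow (p ^ k)
  rw [hk, one_mul, inv_one, mul_one] at hi'
  have h1 : y ^ (j ^ (p ^ k) - 1) ∈ zpowers x := by
    refine mem_zpowers_iff.2 ⟨-i', ?_⟩
    rw [_root_.zpow_sub, zpow_one, zpow_neg, eq_inv_mul_iff_mul_eq.2 hi'.symm]
    group
  have hyo : orderOf y = p := orderOf_eq_prime (h.omegaTwo_pow hy) fun e' => hyx (e' ▸ one_mem _)
  have h2 : (p : ℤ) ∣ j ^ (p ^ k) - 1 := by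
    by_contra hnd
    apply hyx
    have hco : IsCoprime (p : ℤ) (j ^ (p ^ k) - 1) :=
      (Nat.prime_iff_prime_int.1 hp.out).coprime_iff_not_dvd.2 hnd
    obtain ⟨a, b, hab⟩ := hco
    have h3 : y ^ (1 : ℤ) ∈ zpowers x := by
      rw [← hab, _root_.zpow_add, mul_comm b, _root_.zpow_mul _ (j ^ (p ^ k) - 1), mul_comm a,
        _root_.zpow_mul _ (p : ℤ), zpow_natCast, h.omegaTwo_pow hy, one_zpow, one_mul]
      exact zpow_mem h1 b
    rwa [zpow_one] at h3
  have h3 : (p : ℤ) ∣ j - 1 := by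
    rw [← ZMod.intCast_zmod_eq_zero_iff_dvd] at h2 ⊢
    push_cast at h2 ⊢
    rwa [ZMod.pow_card_pow] at h2
  obtain ⟨a, b, rfl⟩ := hgen _ he
  obtain ⟨c, hc⟩ := h3
  have hyj : y ^ j = y := by
    rw [show j = (p : ℤ) * c + 1 by omega, _root_.zpow_add, _root_.zpow_mul, zpow_natCast,
      h.omegaTwo_pow hy, one_zpow, one_mul, zpow_one]
  refine mem_zpowers_iff.2 ⟨i * b, ?_⟩
  rw [show g * (x ^ a * y ^ b) * g⁻¹ = g * x ^ a * g⁻¹ * (g * y ^ b * g⁻¹) by group,
    (hgx.zpow_right a).eq, mul_inv_cancel_right, ← conj_zpow, hij, hyj, hxy.zpow_left i |>.mul_zpow,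
    ← _root_.zpow_mul, mul_inv_rev, ← mul_assoc, ← mul_assoc, mul_inv_cancel_right,
    ← _root_.zpow_add, ← zpow_neg, ← _root_.zpow_add]
  congr 1
  ring

/-- Elements killed by `p` centralizing the plane lie in it. -/
theorem mem_plane (hM : M ≤ R) (hxM : x ∈ M) (hE : Nat.card (omegaTwo p M) = p ^ 2) {q : L}
    (hq : q ∈ M) (hqp : q ^ p = 1) (hc : ∀ e ∈ omegaTwo p M, Commute e q) : q ∈ omegaTwo p M := by
  obtain ⟨y, hy, hyx, -⟩ := h.exists_plane hM hxM hE
  obtain ⟨i, j, rfl⟩ := h.exists_zpow_mul (h.omegaTwo_pow hy) hyx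
    (h.plane_comm hE (h.x_mem_omegaTwo hM hxM) hy) hqp (h.commute_mem hM hq) (hc y hy)
  exact mul_mem (zpow_mem (h.x_mem_omegaTwo hM hxM) i) (zpow_mem hy j)

/-- An element prime to `p` fixing the plane modulo `x` centralizes `M`. -/
theorem plane_commute (hM : M ≤ R) (hxM : x ∈ M) (hE : Nat.card (omegaTwo p M) = p ^ 2) {g : L}
    (hg : g ∈ normalizer (M : Set L)) (hgc : (orderOf g).Coprime p)
    (hfix : ∀ e ∈ omegaTwo p M, g * e * g⁻¹ * e⁻¹ ∈ zpowers x) {m : L} (hm : m ∈ M) : Commute g m := by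
  have hgx := h.commute_normalizer hM hxM hg
  have hxE : ∀ {e : L}, e ∈ omegaTwo p M → Commute x e := fun he =>
    h.commute_mem hM (omegaTwo_le h.ne_two M he)
  have hgE : ∀ e ∈ omegaTwo p M, Commute g e := by
    intro e he
    obtain ⟨i, hi⟩ := mem_zpowers_iff.1 (hfix e he)
    refine commute_of_conj_eq hgc (c := x ^ i) ?_ (hgx.zpow_right i) ⟨1, by
      rw [pow_one, ← zpow_natCast, zpow_comm, zpow_natCast, h.pow_eq, one_zpow]⟩
    rw [((hxE he).zpow_left i).symm.eq, hi]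
    group
  set Q := M ⊓ centralizer (omegaTwo p M : Set L) with hQ
  have hgQ : g ∈ normalizer (Q : Set L) := by
    refine mem_normalizer_fintype fun q hq => ⟨conj_mem_of_normalizer hg hq.1, fun e he => ?_⟩
    have h1 : Commute e q := mem_centralizer_iff.1 hq.2 e he
    have h2 := h1.map (MulAut.conj g).toMonoidHom
    simp only [MulEquiv.coe_toMonoidHom, MulAut.conj_apply] at h2
    rw [(hgE e he).eq, mul_inv_cancel_right] at h2
    exact h2
  have hgQc : ∀ q ∈ Q, Commute g q := fun q hq => h.commute_of_omega (inf_le_left.trans hM) hgc hgQ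
    (fun r hr hrp => hgE r (h.mem_plane hM hxM hE hr.1 hrp fun e he => mem_centralizer_iff.1 hr.2 e he)) hq
  have hq : m⁻¹ * (g * m * g⁻¹) ∈ Q := by
    refine mem_inf.2 ⟨M.mul_mem (M.inv_mem hm) (conj_mem_of_normalizer hg hm), mem_centralizer_iff.2 fun e he => ?_⟩
    have hme : m * e * m⁻¹ ∈ omegaTwo p M := conj_mem_omegaTwo h.ne_two (le_normalizer hm) he
    have e1 : (g * m * g⁻¹) * e * (g * m * g⁻¹)⁻¹ = m * e * m⁻¹ := by
      calc (g * m * g⁻¹) * e * (g * m * g⁻¹)⁻¹ = g * (m * (g⁻¹ * e * g) * m⁻¹) * g⁻¹ := by group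
        _ = g * (m * e * m⁻¹) * g⁻¹ := by
          rw [(hgE e he).inv_left.eq, inv_mul_cancel_right]
        _ = _ := by rw [(hgE _ hme).eq, mul_inv_cancel_right]
    calc e * (m⁻¹ * (g * m * g⁻¹)) = m⁻¹ * (m * e * m⁻¹) * (g * m * g⁻¹) := by group
      _ = m⁻¹ * ((g * m * g⁻¹) * e * (g * m * g⁻¹)⁻¹) * (g * m * g⁻¹) := by rw [e1]
      _ = m⁻¹ * (g * m * g⁻¹) * e := by group
  exact commute_of_conj_eq hgc (c := m⁻¹ * (g * m * g⁻¹)) (by group) (hgQc _ hq)
    (exists_pow_eq_one (h.isPGroup_of_le hM) hq.1)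

end Plane

/-! ### The extraspecial case -/

section Heis

variable (hM : M ≤ R) (hxM : x ∈ M) (hD : Nat.card (omegaTwo p M) = p ^ 3)
include hM hxM hD

/-- An element killed by `p` centralizing the extraspecial subgroup is a power of `x`. -/
theorem heis_centralize {q : L} (hq : q ∈ M) (hqp : q ^ p = 1)
    (hc : ∀ d ∈ omegaTwo p M, Commute d q) : q ∈ zpowers x := by
  by_contra hqx
  have hxq := h.commute_mem hM hq
  have hgen : ∀ d ∈ omegaTwo p M, ∃ i j : ℤ, d = x ^ i * q ^ j := fun d hd =>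
    h.exists_zpow_mul hqp hqx hxq (h.omegaTwo_pow hd) (h.commute_mem hM (omegaTwo_le h.ne_two M hd))
      (hc d hd).symm
  have hcomm : IsMulCommutative (omegaTwo p M) := ⟨⟨fun ⟨a, ha⟩ ⟨b, hb⟩ => Subtype.ext <| by
    obtain ⟨i, j, rfl⟩ := hgen a ha
    obtain ⟨i', j', rfl⟩ := hgen b hb
    exact (((Commute.refl x).zpow_zpow i i').mul_right (hxq.zpow_zpow i j')).mul_left
      ((hxq.symm.zpow_zpow j i').mul_right ((Commute.refl q).zpow_zpow j j'))⟩⟩
  have h1 := h.rank _ hcomm fun a ha => h.omegaTwo_pow ha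
  rw [hD] at h1
  exact absurd h1 (not_le.2 (Nat.pow_lt_pow_right hp.out.one_lt (by norm_num)))

theorem heis_comm_mem {d m : L} (hd : d ∈ omegaTwo p M) (hm : m ∈ M) : ⁅d, m⁆ ∈ zpowers x := by
  have hdM := omegaTwo_le h.ne_two M hd
  have hmem : ⁅d, m⁆ ∈ omegaTwo p M := by
    rw [commutatorElement_def, mul_assoc, mul_assoc]
    refine mul_mem hd ?_
    rw [← mul_assoc]
    exact conj_mem_omegaTwo h.ne_two (le_normalizer hm) (inv_mem hd)
  exact h.heis_centralize hM hxM hD (omegaTwo_le h.ne_two M hmem) (h.omegaTwo_pow hmem) fun d' hd' =>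
    (((mem_omegaTwo h.ne_two).1 hd).2.2 m hm d' (omegaTwo_le h.ne_two M hd')).symm

theorem heis_isCyclic : IsCyclic ↥(M ⊓ centralizer (omegaTwo p M : Set L)) := by
  set C := M ⊓ centralizer (omegaTwo p M : Set L)
  by_contra hnc
  have hCp := h.isPGroup_of_le ((inf_le_left : C ≤ M).trans hM)
  obtain ⟨A, -, hA, hAc⟩ := Cfsg.Agent.S0126.result h.ne_two hCp hnc
  have hle : A.map C.subtype ≤ zpowers x := by
    rintro _ ⟨a, ha, rfl⟩
    exact h.heis_centralize hM hxM hD a.2.1 (congrArg Subtype.val (hA.2 a ha)) fun d hd =>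
      mem_centralizer_iff.1 a.2.2 d hd
  have h1 := card_le_of_le hle
  rw [card_map_of_injective C.subtype_injective, hAc, h.card_zpowers_x] at h1
  exact absurd h1 (not_le.2 (lt_self_pow₀ hp.out.one_lt one_lt_two))

theorem heis_decomp {m : L} (hm : m ∈ M) :
    ∃ d ∈ omegaTwo p M, ∃ c ∈ M ⊓ centralizer (omegaTwo p M : Set L), m = d * c := by
  set D := omegaTwo p M with hDdef
  obtain ⟨e1, he1, he1x⟩ : ∃ e ∈ D, e ∉ zpowers x := by
    by_contra! hall
    have := card_le_of_le (H := D) (K := zpowers x) hall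
    rw [hD, h.card_zpowers_x] at this
    exact absurd this (not_le.2 (lt_self_pow₀ hp.out.one_lt (by norm_num)))
  obtain ⟨e2, he2, he12⟩ : ∃ e ∈ D, ¬ Commute e e1 := by
    by_contra! hall
    exact he1x (h.heis_centralize hM hxM hD (omegaTwo_le h.ne_two M he1) (h.omegaTwo_pow he1) hall)
  set c₀ := ⁅e2, e1⁆ with hc₀
  have hc0 : c₀ ∈ zpowers x := h.heis_comm_mem hM hxM hD he2 (omegaTwo_le h.ne_two M he1)
  have hgenx : ∀ z ∈ zpowers x, ∃ i : ℕ, c₀ ^ i = z := by
    intro z hz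
    have hc01 : c₀ ≠ 1 := fun e => he12 (commutatorElement_eq_one_iff_mul_comm.1 e)
    have h1 : zpowers c₀ = zpowers x := by
      refine eq_of_le_of_card_ge (zpowers_le.2 hc0) (le_of_eq ?_)
      obtain ⟨i, hi⟩ := mem_zpowers_iff.1 hc0
      rw [h.card_zpowers_x, Nat.card_zpowers, orderOf_eq_prime (p := p) ?_ hc01]
      rw [← hi, ← zpow_natCast, zpow_comm, zpow_natCast, h.pow_eq, one_zpow]
    exact (mem_powers_iff_mem_zpowers.2 (h1.ge hz) : z ∈ Submonoid.powers c₀)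
  have hcx : ∀ {z : L}, z ∈ zpowers x → ∀ {w : L}, w ∈ M → Commute z w := by
    intro z hz w hw
    obtain ⟨i, rfl⟩ := mem_zpowers_iff.1 hz
    exact (h.commute_mem hM hw).zpow_left i
  have hbil : ∀ {a b c : L}, b ∈ D → a ∈ D → c ∈ M → ⁅c * a, b⁆ = ⁅c, b⁆ * ⁅a, b⁆ := by
    intro a b c hb ha hc
    have h1 := fun {w : L} => hcx (h.heis_comm_mem hM hxM hD ha (omegaTwo_le h.ne_two M hb)) (w := w)
    rw [commutatorElement_mul_left_eq_conj_mul, ← (h1 hc).eq, mul_inv_cancel_right]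
    refine h1 ?_
    rw [commutatorElement_def]
    exact mul_mem (mul_mem (mul_mem hc (omegaTwo_le h.ne_two M hb)) (inv_mem hc)) (inv_mem (omegaTwo_le h.ne_two M hb))
  have hpow : ∀ {a b : L}, a ∈ D → b ∈ D → ∀ i : ℕ, ⁅a ^ i, b⁆ = ⁅a, b⁆ ^ i := by
    intro a b ha hb i
    induction i with
    | zero => simp
    | succ i ih => rw [pow_succ, hbil hb ha (omegaTwo_le h.ne_two M (pow_mem ha i)), ih, pow_succ]
  have hx : ∀ {b : L}, b ∈ D → ⁅m, b⁆ ∈ zpowers x := fun {b} hb => by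
    rw [← commutatorElement_inv]; exact inv_mem (h.heis_comm_mem hM hxM hD hb hm)
  obtain ⟨i, hi⟩ := hgenx _ (inv_mem (hx he1))
  set m1 := m * e2 ^ i with hm1
  have hm1M : m1 ∈ M := mul_mem hm (omegaTwo_le h.ne_two M (pow_mem he2 i))
  have h11 : ⁅m1, e1⁆ = 1 := by
    rw [hm1, hbil he1 (pow_mem he2 i) hm, hpow he2 he1, ← hc₀, hi, mul_inv_cancel]
  have hx2 : ⁅m1, e2⁆⁻¹ ∈ zpowers x := by
    rw [commutatorElement_inv]; exact h.heis_comm_mem hM hxM hD he2 hm1M
  obtain ⟨j, hj⟩ := hgenx _ (inv_mem hx2)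
  set m2 := m1 * e1 ^ j with hm2
  have hm2M : m2 ∈ M := mul_mem hm1M (omegaTwo_le h.ne_two M (pow_mem he1 j))
  have h21 : ⁅m2, e1⁆ = 1 := by
    rw [hm2, hbil he1 (pow_mem he1 j) hm1M, h11, one_mul, hpow he1 he1, commutatorElement_self, one_pow]
  have h22 : ⁅m2, e2⁆ = 1 := by
    rw [hm2, hbil he2 (pow_mem he1 j) hm1M, hpow he1 he2, ← commutatorElement_inv e2 e1, inv_pow, ← hc₀,
      hj, inv_inv, mul_inv_cancel]
  have hm2D : ∀ d ∈ D, Commute d m2 := by
    set D' := D ⊓ centralizer ({m2} : Set L) with hD'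
    have hmemD' : ∀ {d : L}, d ∈ D → ⁅m2, d⁆ = 1 → d ∈ D' := fun hd h0 =>
      ⟨hd, mem_centralizer_singleton_iff.2 (commutatorElement_eq_one_iff_mul_comm.1 h0).symm⟩
    have hle : D' ≤ D := inf_le_left
    obtain ⟨k, hk⟩ := IsPGroup.iff_card.1
      (h.isPGroup_of_le ((hle.trans (omegaTwo_le h.ne_two M)).trans hM))
    have hk3 : 3 ≤ k := by
      by_contra hlt
      refine he12 ?_
      have h1 : ∀ u v : D', u * v = v * u := by
        have hlt' : k = 0 ∨ k = 1 ∨ k = 2 := by omega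
        rcases hlt' with rfl | rfl | rfl
        · intro u v
          haveI : Subsingleton D' := (Nat.card_eq_one_iff_unique.1 (hk.trans (pow_zero p))).1
          exact Subsingleton.elim _ _
        · haveI := isCyclic_of_prime_card (hk.trans (pow_one p))
          letI := IsCyclic.commGroup (α := D')
          exact mul_comm
        · exact IsPGroup.commutative_of_card_eq_prime_sq hk
      exact congrArg Subtype.val (h1 ⟨e2, hmemD' he2 h22⟩ ⟨e1, hmemD' he1 h21⟩)
    have heq : D' = D := eq_of_le_of_card_ge hle (by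
      rw [hD, hk]; exact Nat.pow_le_pow_right hp.out.pos hk3)
    intro d hd
    exact mem_centralizer_singleton_iff.1 (heq.ge hd).2
  refine ⟨(e2 ^ i * e1 ^ j)⁻¹, inv_mem (mul_mem (pow_mem he2 i) (pow_mem he1 j)), m2,
    ⟨hm2M, fun d hd => (hm2D d hd).eq⟩, ?_⟩
  rw [(hm2D _ (inv_mem (mul_mem (pow_mem he2 i) (pow_mem he1 j)))).eq, hm2, hm1]
  group

/-- An element prime to `p` centralizes the centralizer of the extraspecial subgroup. -/
theorem heis_commute_centralizer {g : L} (hg : g ∈ normalizer (M : Set L)) (hgc : (orderOf g).Coprime p)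
    {c : L} (hc : c ∈ M ⊓ centralizer (omegaTwo p M : Set L)) : Commute g c := by
  have hgC : g ∈ normalizer ((M ⊓ centralizer (omegaTwo p M : Set L) : Subgroup L) : Set L) := by
    refine mem_normalizer_fintype fun q hq => ⟨conj_mem_of_normalizer hg hq.1, fun d hd => ?_⟩
    have h1 : Commute (g⁻¹ * d * g) q := mem_centralizer_iff.1 hq.2 _ (by
      simpa using conj_mem_omegaTwo h.ne_two (inv_mem hg) hd)
    have h2 := h1.map (MulAut.conj g).toMonoidHom
    simp only [MulEquiv.coe_toMonoidHom, MulAut.conj_apply] at h2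
    rw [show g * (g⁻¹ * d * g) * g⁻¹ = d by group] at h2
    exact h2
  refine h.commute_of_omega ((inf_le_left : M ⊓ _ ≤ M).trans hM) hgc hgC (fun q hq hqp => ?_) hc
  obtain ⟨i, rfl⟩ := mem_zpowers_iff.1
    (h.heis_centralize hM hxM hD hq.1 hqp fun d hd => mem_centralizer_iff.1 hq.2 d hd)
  exact (h.commute_normalizer hM hxM hg).zpow_right i

/-- An element prime to `p` fixing the extraspecial subgroup modulo `x` centralizes `M`. -/
theorem heis_commute {g : L} (hg : g ∈ normalizer (M : Set L)) (hgc : (orderOf g).Coprime p)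
    (hfix : ∀ d ∈ omegaTwo p M, g * d * g⁻¹ * d⁻¹ ∈ zpowers x) {m : L} (hm : m ∈ M) : Commute g m := by
  obtain ⟨d, hd, c, hc, rfl⟩ := h.heis_decomp hM hxM hD hm
  refine Commute.mul_right ?_ (h.heis_commute_centralizer hM hxM hD hg hgc hc)
  obtain ⟨i, hi⟩ := mem_zpowers_iff.1 (hfix d hd)
  refine commute_of_conj_eq hgc (c := x ^ i) ?_ ((h.commute_normalizer hM hxM hg).zpow_right i) ⟨1, by
    rw [pow_one, ← zpow_natCast, zpow_comm, zpow_natCast, h.pow_eq, one_zpow]⟩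
  rw [((h.commute_mem hM (omegaTwo_le h.ne_two M hd)).zpow_left i).symm.eq, hi]
  group

end Heis

end Setup

end Cfsg.Lib.Local.IsolatedTwo
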