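import Cfsg.Agent.Lib.Local.IsolatedTwo.Fusion
import Cfsg.Agent.Lib.Local.IsolatedTwo.Chain
import Cfsg.Agent.Lib.Local.PointStabilizer
import Cfsg.Agent.S1447
import Cfsg.Agent.S0112

/-!
# The Sylow subgroup
-/

set_option autoImplicit false
set_option linter.style.haveILetI false

namespace Cfsg.Lib.Local.IsolatedTwo

open Subgroup
open scoped commutatorElement

universe u

variable {L : Type u} [Group L] [Finite L] {p : ℕ} [hp : Fact p.Prime]

namespace Setup

variable {R : Subgroup L} {x : L} (h : Setup p R x)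
include h

theorem sylow_normalizer : ¬ p ∣ R.relIndex (normalizer (R : Set L)) := fun hd =>
  h.sylow (by rw [← relIndex_mul_index (le_normalizer : R ≤ normalizer (R : Set L))]; exact dvd_mul_of_dvd_left hd _)

/-- An element fixed modulo `[R, R]` by the elements of order prime to `p` of `N(R)` lies in `[R, R]`. -/
theorem mem_commutator_of_coprime {r : L} (hr : r ∈ R)
    (hfix : ∀ g ∈ normalizer (R : Set L), (orderOf g).Coprime p → g * r * g⁻¹ * r⁻¹ ∈ ⁅R, R⁆) :
    r ∈ ⁅R, R⁆ := by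
  refine h.mem_commutator_of_fixed hr ?_
  set N := normalizer (R : Set L) with hN
  have hR' : ∀ {g a : L}, g ∈ N → a ∈ ⁅R, R⁆ → g * a * g⁻¹ ∈ ⁅R, R⁆ := by
    intro g a hg ha
    have h1 := mem_map_of_mem (MulAut.conj g).toMonoidHom ha
    have hgR : R.map (MulAut.conj g).toMonoidHom ≤ R := by
      rintro _ ⟨b, hb, rfl⟩
      exact conj_mem_of_normalizer hg hb
    rw [map_commutator] at h1
    exact commutator_mono hgR hgR h1
  let G₀ : Subgroup L :=
    { carrier := {g | g ∈ N ∧ g * r * g⁻¹ * r⁻¹ ∈ ⁅R, R⁆}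
      one_mem' := ⟨one_mem _, by simp⟩
      mul_mem' := fun {a b} ha hb => ⟨mul_mem ha.1 hb.1, by
        have h2 := mul_mem (hR' ha.1 hb.2) ha.2
        rwa [show a * (b * r * b⁻¹ * r⁻¹) * a⁻¹ * (a * r * a⁻¹ * r⁻¹) = a * b * r * (a * b)⁻¹ * r⁻¹ by
          group] at h2⟩
      inv_mem' := fun {a} ha => ⟨inv_mem ha.1, by
        have h2 := hR' (inv_mem ha.1) (inv_mem ha.2)
        rwa [show a⁻¹ * (a * r * a⁻¹ * r⁻¹)⁻¹ * a⁻¹⁻¹ = a⁻¹ * r * a⁻¹⁻¹ * r⁻¹ by group] at h2⟩ }
  have hle : N ≤ G₀ := le_of_sylow_of_coprime h.isPGroup le_normalizer h.sylow_normalizer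
    (fun a ha => ⟨le_normalizer ha, by
      rw [← commutatorElement_def]; exact commutator_mem_commutator ha hr⟩)
    fun g hg hgc => ⟨hg, hfix g hg hgc⟩
  exact fun g hg => (hle hg).2

theorem commutator_lt : ⁅R, R⁆ < R :=
  Cfsg.Lib.PGroup.commutator_lt_of_isPGroup h.isPGroup h.isPGroup le_normalizer
    fun e => h.ne_one (by simpa [e] using h.mem)

/-- Not every element of order prime to `p` of `N(R)` centralizes `R`. -/
theorem exists_acting : ∃ g ∈ normalizer (R : Set L), (orderOf g).Coprime p ∧ ∃ r ∈ R, ¬ Commute g r := by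
  by_contra! hall
  refine h.commutator_lt.not_ge fun r hr => h.mem_commutator_of_coprime hr fun g hg hgc => ?_
  rw [(hall g hg hgc r hr).eq, mul_inv_cancel_right, mul_inv_cancel]
  exact one_mem _

theorem extraspecial_of (hc : Nat.card R = p ^ 3) (hexp : ∀ r ∈ R, r ^ p = 1)
    (hcen : ∀ z ∈ R, (∀ r ∈ R, Commute z r) → z ∈ zpowers x) (hcomm : ⁅R, R⁆ ≤ zpowers x) :
    Cfsg.IsExtraspecial p R ∧ Nat.card R = p ^ 3 ∧ ∀ r ∈ R, r ^ p = 1 := by
  set X := zpowers (⟨x, h.mem⟩ : R) with hX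
  have hXmem : ∀ {a : R}, (a : L) ∈ zpowers x → a ∈ X := fun {a} ha => by
    obtain ⟨i, hi⟩ := mem_zpowers_iff.1 ha
    exact mem_zpowers_iff.2 ⟨i, Subtype.ext (by simpa using hi)⟩
  have hcenter : center R = X := le_antisymm
    (fun (a : R) ha => hXmem (hcen (a : L) a.2 fun r hr => by
      have h1 := congrArg Subtype.val (mem_center_iff.1 ha (⟨r, hr⟩ : R))
      simp only [Subgroup.coe_mul] at h1
      exact h1.symm))
    (zpowers_le.2 (mem_center_iff.2 fun a => Subtype.ext (h.commute a.2).symm.eq))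
  have hcom : commutator R = X := le_antisymm
    (fun a ha => hXmem (hcomm (map_subtype_commutator R ▸ mem_map_of_mem R.subtype ha)))
    (zpowers_le.2 (by
      have h1 := h.commutator_mem
      rw [← map_subtype_commutator] at h1
      obtain ⟨a, ha, hax⟩ := h1
      rwa [← show a = ⟨x, h.mem⟩ from Subtype.ext hax]))
  refine ⟨⟨⟨h.isPGroup, ?_, hcom.trans hcenter.symm⟩, ?_⟩, hc, hexp⟩
  · rw [hcenter]
    refine le_antisymm (Cfsg.Lib.PGroup.frattini_le_of_commutator_le_of_pow_mem (p := p) hcom.le fun a => ?_)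
      (hcom ▸ Cfsg.Lib.PGroup.commutator_le_frattini (p := p) h.isPGroup)
    rw [show a ^ p = 1 from Subtype.ext (hexp a a.2)]
    exact one_mem _
  · rw [hcenter, hX, Nat.card_zpowers, ← orderOf_coe, h.orderOf_eq]

/-- A metacyclic subgroup acted on by an element prime to `p` is abelian. -/
theorem comm_of_metacyclic {Q : Subgroup L} (hQ : Q ≤ R) (hxQ : x ∈ Q) (hm : Cfsg.IsMetacyclic Q) {k : L}
    (hk : k ∈ normalizer (Q : Set L)) (hkc : (orderOf k).Coprime p) (hact : ∃ q ∈ Q, ¬ Commute k q)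
    (hx' : ¬ IsMulCommutative Q → x ∈ ⁅Q, Q⁆) : IsMulCommutative Q := by
  by_contra hnc
  obtain ⟨-, -, hdis, hrest⟩ := Cfsg.Agent.S1447.result p h.ne_two Q (zpowers k) (h.isPGroup_of_le hQ) hm
    (zpowers_le.2 hk) (by rwa [Nat.card_zpowers])
  obtain ⟨q, hq, hkq⟩ := hact
  have h1 := (hrest hnc fun hle => hkq (mem_centralizer_iff.1 (hle (mem_zpowers k)) q hq).symm).2.2.2.2
  have h2 : x ∈ ⁅Q, zpowers k⁆ ⊓ (Q ⊓ centralizer (zpowers k : Set L)) := by
    refine ⟨h1 (hx' hnc), hxQ, fun a ha => ?_⟩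
    obtain ⟨i, rfl⟩ := mem_zpowers_iff.1 ha
    exact ((h.commute_normalizer hQ hxQ hk).zpow_left i).eq
  rw [hdis, mem_bot] at h2
  exact h.ne_one h2

/-- The extraspecial case. -/
theorem shape_heis (hD : Nat.card (omegaTwo p R) = p ^ 3) :
    Cfsg.IsExtraspecial p R ∧ Nat.card R = p ^ 3 ∧ ∀ r ∈ R, r ^ p = 1 := by
  set D := omegaTwo p R with hDdef
  set C := R ⊓ centralizer (D : Set L) with hC
  haveI hCc : IsCyclic C := h.heis_isCyclic le_rfl h.mem hD
  letI := IsCyclic.commGroup (α := C)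
  have hCR : ∀ c ∈ C, ∀ r ∈ R, Commute c r := by
    intro c hc r hr
    obtain ⟨d, hd, c', hc', rfl⟩ := h.heis_decomp le_rfl h.mem hD hr
    refine Commute.mul_right (mem_centralizer_iff.1 hc.2 d hd).symm ?_
    exact congrArg Subtype.val (mul_comm (⟨c, hc⟩ : C) ⟨c', hc'⟩)
  have hcomm : ⁅R, R⁆ ≤ zpowers x := by
    refine commutator_le.2 fun a ha b hb => ?_
    obtain ⟨d, hd, c, hc, rfl⟩ := h.heis_decomp le_rfl h.mem hD ha
    rw [commutatorElement_mul_left_eq_conj_mul,
      commutatorElement_eq_one_iff_mul_comm.2 (hCR c hc b hb).eq]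
    simpa using h.heis_comm_mem le_rfl h.mem hD hd hb
  have hRD : R ≤ D := by
    intro r hr
    obtain ⟨d, hd, c, hc, rfl⟩ := h.heis_decomp le_rfl h.mem hD hr
    refine mul_mem hd ?_
    have h1 : c ∈ ⁅R, R⁆ := h.mem_commutator_of_coprime hc.1 fun g hg hgc => by
      rw [(h.heis_commute_centralizer le_rfl h.mem hD hg hgc hc).eq, mul_inv_cancel_right, mul_inv_cancel]
      exact one_mem _
    exact zpowers_le.2 (h.x_mem_omegaTwo le_rfl h.mem) (hcomm h1)
  have heq : D = R := le_antisymm (omegaTwo_le h.ne_two R) hRD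
  exact h.extraspecial_of (heq ▸ hD) (fun r hr => h.omegaTwo_pow (hRD hr))
    (fun z hz hc => h.heis_centralize le_rfl h.mem hD hz (h.omegaTwo_pow (hRD hz))
      fun d hd => (hc d (omegaTwo_le h.ne_two R hd)).symm) hcomm

/-- The plane case. -/
theorem shape_plane (hE : Nat.card (omegaTwo p R) = p ^ 2) :
    (Cfsg.IsExtraspecial p R ∧ Nat.card R = p ^ 3 ∧ ∀ r ∈ R, r ^ p = 1) ∨
      (p = 3 ∧ ∃ k : ℕ, 2 ≤ k ∧ Nat.card R = 3 ^ (2 * k + 1) ∧
        ∃ _ : Group.IsNilpotent R, Group.nilpotencyClass R = 2 * k) := by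
  classical
  set E := omegaTwo p R with hEdef
  have hER : E ≤ R := omegaTwo_le h.ne_two R
  have hxE : x ∈ E := h.x_mem_omegaTwo le_rfl h.mem
  have hxc : ∀ {z r : L}, z ∈ zpowers x → r ∈ R → Commute z r := fun hz hr => by
    obtain ⟨i, rfl⟩ := mem_zpowers_iff.1 hz
    exact (h.commute hr).zpow_left i
  obtain ⟨k, hk, hkc, e₀, he₀, hke₀⟩ : ∃ k ∈ normalizer (R : Set L), (orderOf k).Coprime p ∧
      ∃ e ∈ E, ¬ Commute k e := by
    by_contra! hall
    obtain ⟨g, hg, hgc, r, hr, hgr⟩ := h.exists_acting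
    refine hgr (h.plane_commute le_rfl h.mem hE hg hgc (fun e he => ?_) hr)
    rw [(hall g hg hgc e he).eq, mul_inv_cancel_right, mul_inv_cancel]
    exact one_mem _
  -- the centralizer of the plane
  set R₀ := R ⊓ centralizer (E : Set L) with hR₀
  have hR₀R : R₀ ≤ R := inf_le_left
  have hER₀ : E ≤ R₀ := fun e he => ⟨hER he, fun e' he' => (h.plane_comm hE he' he).eq⟩
  have hR₀n : ∀ {g : L}, g ∈ normalizer (R : Set L) → g ∈ normalizer (R₀ : Set L) := fun {g} hg => by
    refine mem_normalizer_fintype fun q hq => ⟨conj_mem_of_normalizer hg hq.1, fun e he => ?_⟩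
    have h1 : Commute (g⁻¹ * e * g) q := mem_centralizer_iff.1 hq.2 _ (by
      simpa using conj_mem_omegaTwo h.ne_two (inv_mem hg) he)
    have h2 := h1.map (MulAut.conj g).toMonoidHom
    simp only [MulEquiv.coe_toMonoidHom, MulAut.conj_apply] at h2
    rw [show g * (g⁻¹ * e * g) * g⁻¹ = e by group] at h2
    exact h2
  have hmemE : ∀ q ∈ R₀, q ^ p = 1 → q ∈ E := fun q hq hqp =>
    h.mem_plane le_rfl h.mem hE hq.1 hqp fun e he => mem_centralizer_iff.1 hq.2 e he
  have hmeta : Cfsg.IsMetacyclic R₀ := by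
    refine Cfsg.Lib.PGroup.Huppert.metacyclic_of_central_omega h.ne_two (h.isPGroup_of_le hR₀R)
      (fun q hq => mem_center_iff.2 fun r => Subtype.ext ?_) ?_
    · exact (mem_centralizer_iff.1 r.2.2 q (hmemE q q.2 (by simpa using congrArg Subtype.val hq))).symm
    · rw [← hE]
      refine Nat.card_le_card_of_injective
        (fun q : {q : R₀ // q ^ p = 1} => (⟨(q.1 : L), hmemE _ q.1.2 (by simpa using congrArg Subtype.val q.2)⟩ : E))
        fun a b hab => Subtype.ext (Subtype.ext (congrArg Subtype.val hab :))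
  have hkn := hR₀n hk
  have hxR₀ : x ∈ R₀ := hER₀ hxE
  have hact : ∃ q ∈ R₀, ¬ Commute k q := ⟨e₀, hER₀ he₀, hke₀⟩
  obtain ⟨w, hw, hwR₀⟩ : ∃ w ∈ R, w ∉ R₀ := by
    by_contra! hall
    have heq : R₀ = R := le_antisymm hR₀R hall
    have hab := h.comm_of_metacyclic hR₀R hxR₀ hmeta hkn hkc hact fun _ => heq ▸ h.commutator_mem
    have h2 := h.commutator_mem
    rw [← heq] at h2
    refine h.ne_one ?_
    rwa [(commutator_eq_bot_iff_le_centralizer.2 fun a ha b hb =>
      congrArg Subtype.val (hab.is_comm.comm ⟨b, hb⟩ ⟨a, ha⟩)), mem_bot] at h2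
  obtain ⟨y, hy, hyx, hgen⟩ := h.exists_plane le_rfl h.mem hE
  have hwy : ¬ Commute w y := fun hc => hwR₀ ⟨hw, fun e he => by
    obtain ⟨i, j, rfl⟩ := hgen e he
    exact (((h.commute hw).symm.zpow_right i).mul_right (hc.zpow_right j)).symm.eq⟩
  have hEw : ∀ e ∈ E, Commute e w → e ∈ zpowers x := by
    intro e he hc
    by_contra hex
    obtain ⟨i, j, hij⟩ := h.exists_zpow_mul (h.omegaTwo_pow he) hex (h.commute (hER he))
      (h.omegaTwo_pow hy) (h.commute (hER hy)) (h.plane_comm hE he hy)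
    exact hwy (hij ▸ ((h.commute hw).symm.zpow_right i).mul_right (hc.symm.zpow_right j))
  haveI hR₀c : IsMulCommutative R₀ := by
    refine h.comm_of_metacyclic hR₀R hxR₀ hmeta hkn hkc hact fun hnc => ?_
    have hne : ⁅R₀, R₀⁆ ≠ ⊥ := fun e => hnc ⟨⟨fun a b => Subtype.ext
      (commutatorElement_eq_one_iff_mul_comm.1
        (mem_bot.1 (e ▸ commutator_mem_commutator a.2 b.2)))⟩⟩
    have hn : R ≤ normalizer ((⁅R₀, R₀⁆ : Subgroup L) : Set L) := by
      intro g hg
      refine mem_normalizer_fintype fun a ha => ?_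
      have h1 := mem_map_of_mem (MulAut.conj g).toMonoidHom ha
      have hgR : R₀.map (MulAut.conj g).toMonoidHom ≤ R₀ := by
        rintro _ ⟨b, hb, rfl⟩
        exact conj_mem_of_normalizer (hR₀n (le_normalizer hg)) hb
      rw [map_commutator] at h1
      exact commutator_mono hgR hgR h1
    have hle : ⁅R₀, R₀⁆ ≤ R₀ := commutator_le_self R₀
    obtain ⟨z, hz, hz1, hzp, hzc⟩ := PointStab.exists_fixed (p := p) h.isPGroup
      (h.isPGroup_of_le (hle.trans hR₀R)) hne hn
    obtain ⟨i, hi⟩ := mem_zpowers_iff.1 (hEw z (hmemE z (hle hz) hzp) (hzc w hw).symm)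
    have heq : zpowers z = zpowers x := by
      refine eq_of_le_of_card_ge (zpowers_le.2 ⟨i, hi⟩) (le_of_eq ?_)
      rw [h.card_zpowers_x, Nat.card_zpowers, orderOf_eq_prime hzp hz1]
    exact zpowers_le.2 hz (heq.ge (mem_zpowers x))
  letI : CommGroup R₀ := { (inferInstance : Group R₀) with mul_comm := fun a b => hR₀c.is_comm.comm a b }
  -- `R = R₀⟨w⟩`
  have hc₀x : ⁅w, y⁆ ∈ zpowers x := by
    rw [commutatorElement_def]
    exact h.plane_pGroup_act le_rfl h.mem hE (le_normalizer hw) (exists_pow_eq_one h.isPGroup hw) hy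
  have hc₀p : ⁅w, y⁆ ^ p = 1 := by
    obtain ⟨i, hi⟩ := mem_zpowers_iff.1 hc₀x
    rw [← hi, ← zpow_natCast, zpow_comm, zpow_natCast, h.pow_eq, one_zpow]
  have hc₀1 : ⁅w, y⁆ ≠ 1 := fun e => hwy (commutatorElement_eq_one_iff_mul_comm.1 e)
  have hwyc : w * y * w⁻¹ = y * ⁅w, y⁆ := by
    rw [← ((hxc hc₀x (hER hy))).eq, commutatorElement_def, inv_mul_cancel_right]
  have hR₀of : ∀ r ∈ R, Commute r y → r ∈ R₀ := fun r hr hc => ⟨hr, fun e he => by
    obtain ⟨i, j, rfl⟩ := hgen e he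
    exact (((h.commute hr).zpow_left i).mul_left (hc.symm.zpow_left j)).eq⟩
  have hdec : ∀ r ∈ R, ∃ n : ℕ, ∃ q ∈ R₀, r = w ^ n * q := by
    intro r hr
    have hrx : ⁅r, y⁆ ∈ zpowers x := by
      rw [commutatorElement_def]
      exact h.plane_pGroup_act le_rfl h.mem hE (le_normalizer hr) (exists_pow_eq_one h.isPGroup hr) hy
    have hgenx : zpowers ⁅w, y⁆ = zpowers x := eq_of_le_of_card_ge (zpowers_le.2 hc₀x) (le_of_eq (by
      rw [h.card_zpowers_x, Nat.card_zpowers, orderOf_eq_prime hc₀p hc₀1]))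
    obtain ⟨n, hn⟩ := mem_powers_iff_mem_zpowers.2 (hgenx.ge hrx)
    replace hn : ⁅w, y⁆ ^ n = ⁅r, y⁆ := hn
    have h1 := conj_pow_eq hwyc (hxc hc₀x hw).symm n
    rw [hn, show y * ⁅r, y⁆ = ⁅r, y⁆ * y from ((hxc hrx (hER hy)).symm).eq, commutatorElement_def,
      inv_mul_cancel_right] at h1
    refine ⟨n, (w ^ n)⁻¹ * r, hR₀of _ (mul_mem (inv_mem (pow_mem hw n)) hr) ?_, by group⟩
    have h2 : (w ^ n)⁻¹ * r * y * ((w ^ n)⁻¹ * r)⁻¹ = y := by
      rw [show (w ^ n)⁻¹ * r * y * ((w ^ n)⁻¹ * r)⁻¹ = (w ^ n)⁻¹ * (r * y * r⁻¹) * w ^ n by group, ← h1]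
      group
    exact mul_inv_eq_iff_eq_mul.1 h2
  have hwp : w ^ p ∈ R₀ := hR₀of _ (pow_mem hw p) (by
    have h1 := conj_pow_eq hwyc (hxc hc₀x hw).symm p
    rw [hc₀p, mul_one] at h1
    exact mul_inv_eq_iff_eq_mul.1 h1)
  -- conjugation by `w`
  have hwn : w ∈ normalizer (R₀ : Set L) := hR₀n (le_normalizer hw)
  let φ : MulAut R₀ :=
    { toFun := fun a => ⟨w * a * w⁻¹, conj_mem_of_normalizer hwn a.2⟩
      invFun := fun a => ⟨w⁻¹ * a * w, by simpa using conj_mem_of_normalizer (inv_mem hwn) a.2⟩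
      left_inv := fun a => Subtype.ext (by simp [mul_assoc])
      right_inv := fun a => Subtype.ext (by simp [mul_assoc])
      map_mul' := fun a b => Subtype.ext (by simp [mul_assoc]) }
  have hφ : ∀ (n : ℕ) (a : R₀), (((φ ^ n) a : R₀) : L) = w ^ n * a * (w ^ n)⁻¹ := by
    intro n
    induction n with
    | zero => intro a; simp
    | succ n ih =>
      intro a
      rw [pow_succ' φ, MulAut.mul_apply]
      show w * ((φ ^ n) a : R₀) * w⁻¹ = _
      rw [ih a, pow_succ']
      group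
  have hperiod : ∀ a, (φ ^ p) a = a := fun a => Subtype.ext (by
    rw [hφ, show w ^ p * (a : L) = a * w ^ p from
      congrArg Subtype.val (hR₀c.is_comm.comm (⟨w ^ p, hwp⟩ : R₀) a), mul_inv_cancel_right])
  have hT : ∀ a : R₀, ((diffHom φ a : R₀) : L) = ⁅w, (a : L)⁆ := fun a => by
    rw [diffHom_apply, div_eq_mul_inv, commutatorElement_def]
    rfl
  set I := ((diffHom φ).range).map R₀.subtype with hI
  have hIR : I ≤ ⁅R, R⁆ := by
    rintro _ ⟨_, ⟨a, rfl⟩, rfl⟩
    show ((diffHom φ a : R₀) : L) ∈ ⁅R, R⁆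
    rw [hT]
    exact commutator_mem_commutator hw (hR₀R a.2)
  have hrange : ∀ (n : ℕ) (a : R₀), (φ ^ n) a / a ∈ (diffHom φ).range := by
    intro n
    induction n with
    | zero => intro a; simp
    | succ n ih =>
      intro a
      rw [pow_succ' φ, MulAut.mul_apply, apply_eq φ, mul_comm, mul_div_assoc]
      exact mul_mem ⟨_, rfl⟩ (ih a)
  have hwI : ∀ (n : ℕ) {a : L}, a ∈ R₀ → ⁅w ^ n, a⁆ ∈ I := fun n {a} ha =>
    ⟨_, hrange n ⟨a, ha⟩, by
      show (((φ ^ n) ⟨a, ha⟩ / ⟨a, ha⟩ : R₀) : L) = _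
      rw [div_eq_mul_inv, Subgroup.coe_mul, Subgroup.coe_inv, hφ, commutatorElement_def]⟩
  have hIw : ∀ (n : ℕ) {a : L}, a ∈ I → w ^ n * a * (w ^ n)⁻¹ ∈ I := by
    rintro n _ ⟨_, ⟨b, rfl⟩, rfl⟩
    refine ⟨_, ⟨(φ ^ n) b, rfl⟩, ?_⟩
    show ((diffHom φ ((φ ^ n) b) : R₀) : L) = w ^ n * (diffHom φ b : R₀) * (w ^ n)⁻¹
    rw [← hφ, diffHom_apply, diffHom_apply, map_div]
    rw [show φ ((φ ^ n) b) = (φ ^ n) (φ b) by
      rw [← MulAut.mul_apply, ← MulAut.mul_apply, ← pow_succ', ← pow_succ]]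
  have hR' : ⁅R, R⁆ ≤ I := by
    refine commutator_le.2 fun a ha b hb => ?_
    obtain ⟨n, q, hq, rfl⟩ := hdec a ha
    obtain ⟨m, q', hq', rfl⟩ := hdec b hb
    have h1 : ⁅q, w ^ m * q'⁆ = ⁅w ^ m, q⁆⁻¹ := by
      rw [commutatorElement_mul_right_eq_mul_conj, commutatorElement_eq_one_iff_mul_comm.2
        (congrArg Subtype.val (hR₀c.is_comm.comm (⟨q, hq⟩ : R₀) ⟨q', hq'⟩)), mul_one,
        mul_inv_cancel_right, ← commutatorElement_inv]
    have h2 : ⁅w ^ n, w ^ m * q'⁆ = w ^ m * ⁅w ^ n, q'⁆ * (w ^ m)⁻¹ := by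
      rw [commutatorElement_mul_right_eq_mul_conj, commutatorElement_eq_one_iff_mul_comm.2
        (((Commute.refl w).pow_pow n m).eq), one_mul]
    rw [commutatorElement_mul_left_eq_conj_mul, h1, h2]
    exact mul_mem (hIw n (inv_mem (hwI m hq))) (hIw m (hwI n hq'))
  -- the centralizer of `w` in `R₀`
  set C₁ := R₀ ⊓ centralizer ({w} : Set L) with hC₁
  have hC₁c : ∀ {z : L}, z ∈ C₁ → ∀ r ∈ R, Commute z r := by
    intro z hz r hr
    obtain ⟨n, q, hq, rfl⟩ := hdec r hr
    refine Commute.mul_right ?_ (congrArg Subtype.val (hR₀c.is_comm.comm (⟨z, hz.1⟩ : R₀) ⟨q, hq⟩))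
    exact (show Commute z w from mem_centralizer_singleton_iff.1 hz.2).pow_right n
  have hC₁n : ∀ {g : L}, g ∈ normalizer (R : Set L) → g ∈ normalizer (C₁ : Set L) := fun {g} hg => by
    refine mem_normalizer_fintype fun z hz => ⟨conj_mem_of_normalizer (hR₀n hg) hz.1, ?_⟩
    have hw' : g⁻¹ * w * g ∈ R := by simpa using conj_mem_of_normalizer (inv_mem hg) hw
    have h2 := (hC₁c hz _ hw').map (MulAut.conj g).toMonoidHom
    simp only [MulEquiv.coe_toMonoidHom, MulAut.conj_apply] at h2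
    rw [show g * (g⁻¹ * w * g) * g⁻¹ = w by group] at h2
    exact mem_centralizer_singleton_iff.2 h2.eq
  have hC₁X : ∀ z ∈ C₁, z ∈ zpowers x := by
    intro z hz
    have hzR' : z ∈ ⁅R, R⁆ := h.mem_commutator_of_coprime (hR₀R hz.1) fun g hg hgc => by
      have hcg : Commute g z := h.commute_of_omega ((inf_le_left : C₁ ≤ R₀).trans hR₀R) hgc (hC₁n hg)
        (fun q hq hqp => by
          obtain ⟨i, hi⟩ := mem_zpowers_iff.1 (hEw q (hmemE q hq.1 hqp)
            (mem_centralizer_singleton_iff.1 hq.2))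
          exact hi ▸ (h.commute_normalizer le_rfl h.mem hg).zpow_right i) hz
      rw [hcg.eq, mul_inv_cancel_right, mul_inv_cancel]
      exact one_mem _
    obtain ⟨_, ⟨a, rfl⟩, ha⟩ := hR' hzR'
    have hφz : ∀ i : ℕ, (φ ^ i) (diffHom φ a) = diffHom φ a := fun i => Subtype.ext (by
      rw [hφ]
      show w ^ i * ((diffHom φ a : R₀) : L) * (w ^ i)⁻¹ = _
      rw [show ((diffHom φ a : R₀) : L) = z from ha,
        ((show Commute z w from mem_centralizer_singleton_iff.1 hz.2).symm.pow_left i).eq,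
        mul_inv_cancel_right])
    have hpow : ∀ n : ℕ, diffHom φ a ^ n = (φ ^ n) a / a := by
      intro n
      induction n with
      | zero => simp
      | succ n ih =>
        have e := hφz n
        rw [diffHom_apply, map_div, ← MulAut.mul_apply, ← pow_succ] at e
        rw [pow_succ', ih]
        conv_lhs => rw [diffHom_apply, ← e]
        exact div_mul_div_cancel _ _ _
    refine hEw z (hmemE z hz.1 ?_) (mem_centralizer_singleton_iff.1 hz.2)
    rw [← show ((diffHom φ a : R₀) : L) = z from ha, ← SubgroupClass.coe_pow, hpow p, hperiod, div_self']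
    rfl
  have hker : (diffHom φ).ker = (zpowers x).subgroupOf R₀ := by
    ext a
    rw [MonoidHom.mem_ker, mem_subgroupOf, Subtype.ext_iff, hT, OneMemClass.coe_one,
      commutatorElement_eq_one_iff_mul_comm]
    exact ⟨fun hc => hC₁X a ⟨a.2, mem_centralizer_singleton_iff.2 hc.symm⟩,
      fun ha => (hxc ha hw).symm.eq⟩
  obtain ⟨m, hm⟩ := IsPGroup.iff_card.1 (h.isPGroup_of_le hR₀R)
  have hchain : Chain p m φ := by
    refine ⟨hm, ?_, fun U hU hinv => ?_⟩
    · rw [hker, Nat.card_congr (subgroupOfEquivOfLe (zpowers_le.2 hxR₀)).toEquiv, h.card_zpowers_x]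
    set U' := U.map R₀.subtype with hU'
    have hU'R₀ : U' ≤ R₀ := map_subtype_le U
    have hn : R ≤ normalizer (U' : Set L) := by
      intro r hr
      obtain ⟨n, q, hq, rfl⟩ := hdec r hr
      refine mul_mem (pow_mem ?_ n) ?_
      · refine mem_normalizer_fintype ?_
        rintro _ ⟨u, hu, rfl⟩
        exact ⟨φ u, by rw [apply_eq φ u]; exact mul_mem hu (hinv u hu), rfl⟩
      · refine mem_normalizer_fintype ?_
        intro u hu
        rw [show q * u = u * q from
          congrArg Subtype.val (hR₀c.is_comm.comm (⟨q, hq⟩ : R₀) ⟨u, hU'R₀ hu⟩), mul_inv_cancel_right]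
        exact hu
    have hne : U' ≠ ⊥ := by
      rw [hU', Ne, map_eq_bot_iff_of_injective _ R₀.subtype_injective]
      exact hU
    obtain ⟨z, hz, hz1, hzp, hzc⟩ := PointStab.exists_fixed (p := p) h.isPGroup
      (h.isPGroup_of_le (hU'R₀.trans hR₀R)) hne hn
    have heq : zpowers z = zpowers x := by
      refine eq_of_le_of_card_ge (zpowers_le.2 (hEw z (hmemE z (hU'R₀ hz) hzp) (hzc w hw).symm)) (le_of_eq ?_)
      rw [h.card_zpowers_x, Nat.card_zpowers, orderOf_eq_prime hzp hz1]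
    intro a ha
    rw [hker, mem_subgroupOf, ← heq] at ha
    obtain ⟨b, hb, hba⟩ := zpowers_le.2 hz ha
    rwa [← Subtype.ext hba]
  have hrank : Nat.card (powMonoidHom p : R₀ →* R₀).ker = p ^ 2 := by
    have heq : (powMonoidHom p : R₀ →* R₀).ker = E.subgroupOf R₀ := by
      ext a
      rw [MonoidHom.mem_ker, powMonoidHom_apply, mem_subgroupOf, Subtype.ext_iff, SubgroupClass.coe_pow,
        OneMemClass.coe_one]
      exact ⟨fun ha => hmemE a a.2 ha, fun ha => h.omegaTwo_pow ha⟩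
    rw [heq, Nat.card_congr (subgroupOfEquivOfLe hER₀).toEquiv, hE]
  have hm2 : 2 ≤ m := by
    have h1 := card_le_card_group (powMonoidHom p : R₀ →* R₀).ker
    rw [hrank, hm] at h1
    exact (Nat.pow_le_pow_iff_right hp.out.one_lt).1 h1
  -- the order of `R`
  haveI hR₀norm : (R₀.subgroupOf R).Normal := ⟨fun a ha b => mem_subgroupOf.2
    (conj_mem_of_normalizer (hR₀n (le_normalizer b.2)) (mem_subgroupOf.1 ha))⟩
  set wR : R := ⟨w, hw⟩ with hwR
  set π := QuotientGroup.mk' (R₀.subgroupOf R) with hπ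
  have hπgen : ∀ r : R, ∃ n : ℕ, π r = π wR ^ n := by
    intro r
    obtain ⟨n, q, hq, hr⟩ := hdec r r.2
    refine ⟨n, ?_⟩
    rw [← map_pow, hπ, QuotientGroup.mk'_apply, QuotientGroup.mk'_apply, QuotientGroup.eq, mem_subgroupOf]
    simp only [Subgroup.coe_mul, Subgroup.coe_inv, SubgroupClass.coe_pow, hwR]
    rw [hr, mul_inv_rev, inv_mul_cancel_right]
    exact inv_mem hq
  have hπw : orderOf (π wR) = p := orderOf_eq_prime
    (by rw [← map_pow]; exact (QuotientGroup.eq_one_iff _).2 (mem_subgroupOf.2 hwp))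
    fun e => hwR₀ (mem_subgroupOf.1 ((QuotientGroup.eq_one_iff _).1 e))
  have hquot : Nat.card (R ⧸ R₀.subgroupOf R) = p := by
    rw [← hπw, ← Nat.card_zpowers, ← card_top]
    congr 1
    refine le_antisymm (fun u _ => ?_) le_top |> fun e => by rw [e]
    obtain ⟨r, rfl⟩ := QuotientGroup.mk'_surjective _ u
    obtain ⟨n, hn⟩ := hπgen r
    exact mem_zpowers_iff.2 ⟨n, by rw [zpow_natCast]; exact hn.symm⟩
  have hRcard : Nat.card R = p ^ (m + 1) := by
    rw [card_eq_card_quotient_mul_card_subgroup (R₀.subgroupOf R), hquot,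
      Nat.card_congr (subgroupOfEquivOfLe hR₀R).toEquiv, hm, pow_succ']
  have hcen : ∀ z ∈ R, (∀ r ∈ R, Commute z r) → z ∈ zpowers x := fun z hz hc =>
    hC₁X z ⟨hR₀of z hz (hc y (hER hy)), mem_centralizer_singleton_iff.2 (hc w hw).eq⟩
  by_cases hm3 : m = 2
  · subst hm3
    refine Or.inl (h.extraspecial_of hRcard ?_ hcen ?_)
    · intro r hr
      by_contra hrp
      set rR : R := ⟨r, hr⟩ with hrR
      obtain ⟨j, hj, hjo⟩ := (Nat.dvd_prime_pow hp.out).1 (hRcard ▸ orderOf_dvd_natCard rR)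
      have hj2 : 2 ≤ j := by
        by_contra hlt
        refine hrp ?_
        have h1 : rR ^ p = 1 := orderOf_dvd_iff_pow_eq_one.1 (by
          rw [hjo]; exact (pow_dvd_pow p (show j ≤ 1 by omega)).trans (pow_one p).dvd)
        simpa [hrR] using congrArg Subtype.val h1
      have hj3 : j ≠ 3 := fun e => by
        have hcy : IsCyclic R := isCyclic_of_orderOf_eq_card rR (by rw [hjo, e, hRcard])
        letI := IsCyclic.commGroup (α := R)
        refine h.ne_one ?_
        have h1 := h.commutator_mem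
        rwa [(commutator_eq_bot_iff_le_centralizer.2 fun a ha b hb =>
          congrArg Subtype.val (mul_comm (⟨b, hb⟩ : R) ⟨a, ha⟩)), mem_bot] at h1
      obtain rfl : j = 2 := by omega
      have hidx : (zpowers rR).index = p := by
        have h1 := card_mul_index (zpowers rR)
        rw [Nat.card_zpowers, hjo, hRcard, pow_succ] at h1
        exact Nat.eq_of_mul_eq_mul_left (pow_pos hp.out.pos 2) h1
      have hnorm : (zpowers rR).Normal := by
        refine normal_of_index_eq_minFac_card ?_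
        rw [hidx, hRcard, Nat.Prime.pow_minFac hp.out (by omega)]
      have hRm : Cfsg.IsMetacyclic R := ⟨zpowers rR, hnorm, inferInstance,
        isCyclic_of_prime_card (p := p) (by rw [← index_eq_card, hidx])⟩
      have hab := h.comm_of_metacyclic le_rfl h.mem hRm hk hkc ⟨e₀, hER he₀, hke₀⟩ fun _ => h.commutator_mem
      refine h.ne_one ?_
      have h1 := h.commutator_mem
      rwa [(commutator_eq_bot_iff_le_centralizer.2 fun a ha b hb =>
        congrArg Subtype.val (hab.is_comm.comm ⟨b, hb⟩ ⟨a, ha⟩)), mem_bot] at h1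
    · refine hR'.trans ?_
      rintro _ ⟨b, hb, rfl⟩
      have h1 : b ∈ (diffHom φ).ker := by
        rw [hchain.ker_eq]
        rwa [MonoidHom.range_eq_map] at hb
      rw [hker, mem_subgroupOf] at h1
      exact h1
  right
  have hmodd : ¬ Odd m := by
    intro hodd
    obtain ⟨v, -, hv⟩ := hchain.exists_not_mem (j := 0) (by omega)
    refine hv ?_
    have hvR' : (v : L) ∈ ⁅R, R⁆ := h.mem_commutator_of_coprime (hR₀R v.2) fun g hg hgc => by
      obtain ⟨l, q, hq, hgw⟩ := hdec _ (conj_mem_of_normalizer hg hw)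
      let ψ : R₀ →* R₀ := MonoidHom.mk' (fun a => ⟨g * a * g⁻¹, conj_mem_of_normalizer (hR₀n hg) a.2⟩)
        fun a b => Subtype.ext (by simp [mul_assoc])
      have hψc : ∀ a, ((ψ a : R₀) : L) = g * a * g⁻¹ := fun a => rfl
      have hψ : ∀ a, ψ (diffHom φ a) = (φ ^ l) (ψ a) / ψ a := fun a => Subtype.ext (by
        rw [hψc, hT, div_eq_mul_inv, Subgroup.coe_mul, Subgroup.coe_inv, hφ, hψc, commutatorElement_def]
        have hqc : q * (g * a * g⁻¹) = (g * a * g⁻¹) * q :=
          congrArg Subtype.val (hR₀c.is_comm.comm (⟨q, hq⟩ : R₀) (ψ a))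
        calc g * (w * a * w⁻¹ * (a : L)⁻¹) * g⁻¹
            = (g * w * g⁻¹) * (g * a * g⁻¹) * (g * w * g⁻¹)⁻¹ * (g * a * g⁻¹)⁻¹ := by group
          _ = w ^ l * (q * (g * a * g⁻¹)) * q⁻¹ * (w ^ l)⁻¹ * (g * a * g⁻¹)⁻¹ := by rw [hgw]; group
          _ = _ := by rw [hqc]; group)
      have hfix : ∀ a ∈ (diffHom φ).ker, ψ a = a := fun a ha => Subtype.ext (by
        rw [hker, mem_subgroupOf] at ha
        obtain ⟨i, hi⟩ := mem_zpowers_iff.1 ha
        rw [hψc, ← hi, ((h.commute_normalizer le_rfl h.mem hg).zpow_right i).eq, mul_inv_cancel_right])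
      have h1 := hchain.fix_of_odd hrank (by omega) hodd ψ l hψ hfix v
      refine hIR ⟨ψ v / v, ?_, ?_⟩
      · rwa [SetLike.mem_coe, MonoidHom.range_eq_map]
      · show ((ψ v / v : R₀) : L) = _
        rw [div_eq_mul_inv, Subgroup.coe_mul, Subgroup.coe_inv, hψc]
    obtain ⟨b, hb, hbv⟩ := hR' hvR'
    rw [← show b = v from Subtype.ext hbv]
    rwa [SetLike.mem_coe, MonoidHom.range_eq_map] at hb
  obtain ⟨c, hc⟩ := Nat.not_odd_iff_even.1 hmodd
  have hp3 : p = 3 := by
    by_contra hne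
    have h5 : 5 ≤ p := by
      have h2 := hp.out.two_le
      have h4 : p ≠ 4 := fun e => absurd (e ▸ hp.out) (by decide)
      have := h.ne_two
      omega
    have := hchain.length_le hrank h5 hperiod
    omega
  subst hp3
  refine ⟨rfl, c, by omega, ?_, h.isPGroup.isNilpotent, ?_⟩
  · rw [hRcard]; congr 1; omega
  -- maximal class
  set X := (zpowers x).subgroupOf R
  set A₂ := centralizer ({wR} : Set R) with hA₂
  have hA₂card : Nat.card A₂ = 3 ^ 2 := by
    have h1 := card_eq_card_quotient_mul_card_subgroup (π.comp A₂.subtype).ker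
    rw [Nat.card_congr (QuotientGroup.quotientKerEquivRange _).toEquiv, MonoidHom.range_comp, range_subtype] at h1
    have htop : A₂.map π = ⊤ := by
      refine eq_top_iff.2 fun u _ => ?_
      obtain ⟨r, rfl⟩ := QuotientGroup.mk'_surjective _ u
      obtain ⟨n, hn⟩ := hπgen r
      exact ⟨wR ^ n, mem_centralizer_singleton_iff.2 ((Commute.refl wR).pow_left n).eq, by rw [map_pow]; exact hn.symm⟩
    have hkerA : (π.comp A₂.subtype).ker = X.subgroupOf A₂ := by
      ext a
      rw [MonoidHom.mem_ker, mem_subgroupOf, mem_subgroupOf, MonoidHom.comp_apply, hπ,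
        QuotientGroup.mk'_apply, QuotientGroup.eq_one_iff, mem_subgroupOf, coe_subtype]
      exact ⟨fun ha => hC₁X _ ⟨ha, mem_centralizer_singleton_iff.2
        (congrArg Subtype.val (mem_centralizer_singleton_iff.1 a.2) :)⟩,
        fun ha => zpowers_le.2 hxR₀ ha⟩
    have hXA : X ≤ A₂ := fun a ha => mem_centralizer_singleton_iff.2
      (Subtype.ext (hxc (mem_subgroupOf.1 ha) hw).eq)
    rw [htop, card_top, hquot, hkerA, Nat.card_congr (subgroupOfEquivOfLe hXA).toEquiv,
      Nat.card_congr (subgroupOfEquivOfLe (zpowers_le.2 h.mem)).toEquiv, h.card_zpowers_x] at h1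
    rw [h1, sq]
  have hA₂self : centralizer (A₂ : Set R) = A₂ := by
    refine le_antisymm (fun a ha => mem_centralizer_singleton_iff.2 ?_) fun a ha b hb => ?_
    · exact (mem_centralizer_iff.1 ha wR (mem_centralizer_singleton_iff.2 rfl)).symm
    · exact congrArg Subtype.val ((IsPGroup.isMulCommutative_of_card_eq_prime_sq hA₂card).is_comm.comm
        (⟨b, hb⟩ : A₂) ⟨a, ha⟩)
  haveI := h.isPGroup.isNilpotent
  have hclass := Cfsg.Agent.S0112.result (m + 1) hRcard A₂ hA₂card hA₂self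
  omega

/-- The Sylow subgroup of a perfect group containing an isolated element of order `p`. -/
theorem shape : (Cfsg.IsExtraspecial p R ∧ Nat.card R = p ^ 3 ∧ ∀ r ∈ R, r ^ p = 1) ∨
    (p = 3 ∧ ∃ k : ℕ, 2 ≤ k ∧ Nat.card R = 3 ^ (2 * k + 1) ∧
      ∃ _ : Group.IsNilpotent R, Group.nilpotencyClass R = 2 * k) := by
  by_cases hc : IsCyclic R
  · exfalso
    letI := IsCyclic.commGroup (α := R)
    have h1 := h.commutator_mem
    rw [(commutator_eq_bot_iff_le_centralizer.2 fun a ha b hb =>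
      congrArg Subtype.val (mul_comm (⟨b, hb⟩ : R) ⟨a, ha⟩)), mem_bot] at h1
    exact h.ne_one h1
  rcases h.card_omegaTwo le_rfl hc with hE | hD
  · exact h.shape_plane hE
  · exact Or.inl (h.shape_heis hD)

end Setup

end Cfsg.Lib.Local.IsolatedTwo
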